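import Mathlib
import Cfsg.Agent.S0721
import Cfsg.Agent.FastGrp
import Cfsg.Agent.Prune
set_option linter.all false

section
prune_inst 0x7ffdfef9bfb8fddfffff7ffffff5dffff9dedfffffdffbfbffedfbffffff6367ffe5fbbf7fe4d8ffdf77e29e30b87853f97eeeffed6bdc7ffffd5ff45ffbee0fb7eebf8d71d7bc3e1ffe6ffff3f37fbf7f3ffffffffffffffffffffffffffffffffdffffffff

-- part: H284/EP/Basic
section
prune_inst 0x20040000000000000000800000420200000000000000004000000080000120000801b040020801100064003a804000000009000000000000020041190481140220c280081000010000c0c800080c00000000000000000000000000000000200000000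
set_option linter.all false
open scoped Cfsg.Agent.FastGrp

/-!
# Extremely primitive groups, the abstract engine, part 1 (helper284; facts of helper91, helper67, helper419)

* `EPA G Ω` : the action is primitive, the point stabilisers `G_a` are not trivial, `G_ab` is maximal in `G_a` for
  all `b ≠ a`;
* `F1` : a nontrivial normal subgroup of `G_a` fixes only `a`;
* `EP H` : the group form; `EP.F1` (a nontrivial normal subgroup of `H` is in no other conjugate), `EP.fac`,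
  `EP.norm` (F3), `EP.comm_inf`, `EP.card_comm` (F4);
* `reg_comm`, `reg_sub` : a solvable group acting irreducibly on `N`: `N` is elementary abelian;
* `EP.T_max` (F2), `EP.inf_T_ne_bot`, `EP.norm_A`, `EP.M0_ne_bot` (F3).
-/

set_option autoImplicit false
set_option linter.unusedSectionVars false

namespace Cfsg.Agent.H284

open MulAction Subgroup
open scoped commutatorElement

variable {G : Type*} [Group G] {Ω : Type*} [MulAction G Ω]

/-- conjugate subgroup `x H x⁻¹` -/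
abbrev cj (x : G) (H : Subgroup G) : Subgroup G := H.map (MulAut.conj x).toMonoidHom

theorem mem_cj {x g : G} {H : Subgroup G} : g ∈ cj x H ↔ x⁻¹ * g * x ∈ H := by
  constructor
  · rintro ⟨h, hh, rfl⟩
    have : x⁻¹ * ((MulAut.conj x).toMonoidHom h) * x = h := by
      show x⁻¹ * (x * h * x⁻¹) * x = h
      group
    rw [this]; exact hh
  · intro h
    refine ⟨_, h, ?_⟩
    show x * (x⁻¹ * g * x) * x⁻¹ = g
    group

theorem conj_mem_cj {x g : G} {H : Subgroup G} (h : g ∈ H) : x * g * x⁻¹ ∈ cj x H := ⟨g, h, rfl⟩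

theorem cj_mul (x y : G) (H : Subgroup G) : cj (x * y) H = cj x (cj y H) := by
  ext g
  rw [mem_cj, mem_cj, mem_cj]
  have : (x * y)⁻¹ * g * (x * y) = y⁻¹ * (x⁻¹ * g * x) * y := by group
  rw [this]

theorem cj_one (H : Subgroup G) : cj 1 H = H := by
  ext g
  rw [mem_cj]
  simp

theorem cj_inv_cj (x : G) (H : Subgroup G) : cj x⁻¹ (cj x H) = H := by rw [← cj_mul, inv_mul_cancel, cj_one]

theorem cj_cj_inv (x : G) (H : Subgroup G) : cj x (cj x⁻¹ H) = H := by rw [← cj_mul, mul_inv_cancel, cj_one]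

theorem cj_mono {x : G} {H K : Subgroup G} (h : H ≤ K) : cj x H ≤ cj x K := Subgroup.map_mono h

theorem cj_le_iff {x : G} {H K : Subgroup G} : cj x H ≤ K ↔ H ≤ cj x⁻¹ K := by
  constructor
  · intro h
    rw [← cj_inv_cj x H]
    exact cj_mono h
  · intro h
    rw [← cj_cj_inv x K]
    exact cj_mono h

theorem cj_eq_bot_iff {x : G} {H : Subgroup G} : cj x H = ⊥ ↔ H = ⊥ := by
  constructor
  · intro h
    rw [← cj_inv_cj x H, h]
    exact Subgroup.map_bot _
  · rintro rfl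
    exact Subgroup.map_bot _

theorem cj_inf (x : G) (H K : Subgroup G) : cj x (H ⊓ K) = cj x H ⊓ cj x K := by
  ext g
  rw [mem_inf, mem_cj, mem_cj, mem_cj, mem_inf]

theorem card_cj (x : G) (H : Subgroup G) : Nat.card (cj x H) = Nat.card H :=
  Nat.card_congr (H.equivMapOfInjective _ (MulAut.conj x).injective).toEquiv.symm

theorem cj_eq_self {x : G} {H : Subgroup G} (hx : x ∈ H) : cj x H = H := by
  ext g
  rw [mem_cj]
  constructor
  · intro h
    have : g = x * (x⁻¹ * g * x) * x⁻¹ := by group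
    rw [this]
    exact H.mul_mem (H.mul_mem hx h) (H.inv_mem hx)
  · intro h
    exact H.mul_mem (H.mul_mem (H.inv_mem hx) h) hx

theorem stab_smul (g : G) (a : Ω) : stabilizer G (g • a) = cj g (stabilizer G a) := by
  ext x
  rw [mem_cj, mem_stabilizer_iff, mem_stabilizer_iff, mul_smul, mul_smul, inv_smul_eq_iff]

/-- Extremely primitive actions. -/
structure EPA (G Ω : Type*) [Group G] [MulAction G Ω] : Prop where
  tr : IsPretransitive G Ω
  max : ∀ a : Ω, IsCoatom (stabilizer G a)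
  ne : ∀ a : Ω, stabilizer G a ≠ ⊥
  two : ∀ (a b : Ω), b ≠ a → ∀ L : Subgroup G, stabilizer G a ⊓ stabilizer G b ≤ L → L ≤ stabilizer G a →
    L = stabilizer G a ⊓ stabilizer G b ∨ L = stabilizer G a

namespace EPA

variable (h : EPA G Ω)

include h

theorem exists_smul (a b : Ω) : ∃ g : G, g • a = b := h.tr.exists_smul_eq a b

theorem not_le [FaithfulSMul G Ω] {a b : Ω} (hab : a ≠ b) : ¬ stabilizer G a ≤ stabilizer G b := by
  intro hle
  have h1 : stabilizer G a = stabilizer G b := by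
    by_contra hne
    exact (h.max b).1 ((h.max a).2 _ (lt_of_le_of_ne hle hne))
  obtain ⟨g, hg⟩ := h.exists_smul a b
  have h2 : cj g (stabilizer G a) = stabilizer G a := by rw [← stab_smul, hg, h1]
  have h3 : g ∈ Subgroup.normalizer (stabilizer G a : Set G) := by
    rw [Subgroup.mem_normalizer_iff]
    intro x
    constructor
    · intro hx
      have := conj_mem_cj (x := g) hx
      rwa [h2] at this
    · intro hx
      rw [← h2, mem_cj] at hx
      have e : g⁻¹ * (g * x * g⁻¹) * g = x := by group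
      rwa [e] at hx
  have h4 : Subgroup.normalizer (stabilizer G a : Set G) = ⊤ := by
    by_contra hne
    have h5 : stabilizer G a = Subgroup.normalizer (stabilizer G a : Set G) := by
      by_contra hne'
      exact hne ((h.max a).2 _ (lt_of_le_of_ne Subgroup.le_normalizer hne'))
    rw [← h5] at h3
    exact hab (h3.symm.trans hg)
  apply h.ne a
  rw [Subgroup.eq_bot_iff_forall]
  intro x hx
  apply FaithfulSMul.eq_of_smul_eq_smul (α := Ω)
  intro c
  rw [one_smul]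
  obtain ⟨k, rfl⟩ := h.exists_smul a c
  have hk : k⁻¹ ∈ Subgroup.normalizer (stabilizer G a : Set G) := by rw [h4]; exact mem_top _
  have h6 := (Subgroup.mem_normalizer_iff.1 hk x).1 hx
  rw [inv_inv] at h6
  have h7 : k⁻¹ * x * k ∈ stabilizer G a := h6
  rw [mem_stabilizer_iff, mul_smul, mul_smul, inv_smul_eq_iff] at h7
  exact h7

theorem sup_eq_top [FaithfulSMul G Ω] {a b : Ω} (hab : a ≠ b) : stabilizer G a ⊔ stabilizer G b = ⊤ := by
  apply (h.max a).2
  rw [left_lt_sup]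
  exact h.not_le hab.symm

/-- a set invariant under two point stabilisers is invariant -/
theorem inv_of_two [FaithfulSMul G Ω] {a b : Ω} (hab : a ≠ b) {S : Set Ω}
    (ha : ∀ g ∈ stabilizer G a, ∀ x ∈ S, g • x ∈ S) (hb : ∀ g ∈ stabilizer G b, ∀ x ∈ S, g • x ∈ S)
    {x : Ω} (hx : x ∈ S) (g : G) : g • x ∈ S := by
  let T : Subgroup G :=
    { carrier := {g | (∀ x ∈ S, g • x ∈ S) ∧ ∀ x ∈ S, g⁻¹ • x ∈ S}
      one_mem' := ⟨fun x hx => by rwa [one_smul], fun x hx => by rwa [inv_one, one_smul]⟩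
      mul_mem' := fun {g k} hg hk => ⟨fun x hx => by rw [mul_smul]; exact hg.1 _ (hk.1 _ hx),
        fun x hx => by rw [mul_inv_rev, mul_smul]; exact hk.2 _ (hg.2 _ hx)⟩
      inv_mem' := fun {g} hg => ⟨hg.2, fun x hx => by rw [inv_inv]; exact hg.1 _ hx⟩ }
  have h1 : stabilizer G a ⊔ stabilizer G b ≤ T := by
    apply sup_le
    · intro g hg
      exact ⟨ha g hg, ha _ (inv_mem hg)⟩
    · intro g hg
      exact ⟨hb g hg, hb _ (inv_mem hg)⟩
  rw [h.sup_eq_top hab] at h1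
  exact (h1 (mem_top g)).1 x hx

/-- A nonempty set invariant under two point stabilisers is everything. -/
theorem eq_univ_of_two [FaithfulSMul G Ω] {a b : Ω} (hab : a ≠ b) {S : Set Ω}
    (ha : ∀ g ∈ stabilizer G a, ∀ x ∈ S, g • x ∈ S) (hb : ∀ g ∈ stabilizer G b, ∀ x ∈ S, g • x ∈ S)
    (hS : S.Nonempty) (y : Ω) : y ∈ S := by
  obtain ⟨x, hx⟩ := hS
  obtain ⟨g, rfl⟩ := h.exists_smul x y
  exact h.inv_of_two hab ha hb hx g

/-- A subgroup of `G_a` normalised by `G_a` and moving `c` has the same orbit of `c` as `G_a`. -/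
theorem orbit_of_normal {a c : Ω} (hac : c ≠ a) {K : Subgroup G} (hK : K ≤ stabilizer G a)
    (hn : ∀ g ∈ stabilizer G a, ∀ k ∈ K, g * k * g⁻¹ ∈ K) (hc : ¬ K ≤ stabilizer G c) {g : G}
    (hg : g ∈ stabilizer G a) : ∃ k ∈ K, g • c = k • c := by
  let T : Subgroup G :=
    { carrier := {g | g ∈ stabilizer G a ∧ ∃ k ∈ K, g • c = k • c}
      one_mem' := ⟨one_mem _, 1, one_mem _, rfl⟩
      mul_mem' := by
        rintro g₁ g₂ ⟨h1, k₁, hk₁, e₁⟩ ⟨h2, k₂, hk₂, e₂⟩
        refine ⟨mul_mem h1 h2, g₁ * k₂ * g₁⁻¹ * k₁, mul_mem (hn g₁ h1 k₂ hk₂) hk₁, ?_⟩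
        rw [mul_smul, e₂, mul_smul _ k₁, ← e₁, ← mul_smul, ← mul_smul]
        congr 1
        group
      inv_mem' := by
        rintro g ⟨h1, k, hk, e⟩
        refine ⟨inv_mem h1, (g⁻¹ * k * g)⁻¹, inv_mem ?_, ?_⟩
        · have := hn g⁻¹ (inv_mem h1) k hk
          rwa [inv_inv] at this
        · rw [eq_inv_smul_iff, ← mul_smul]
          have e1 : g⁻¹ * k * g * g⁻¹ = g⁻¹ * k := by group
          rw [e1, mul_smul, ← e, inv_smul_smul] }
  have h1 : stabilizer G a ⊓ stabilizer G c ⊔ K ≤ T := by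
    apply sup_le
    · intro x hx
      exact ⟨(mem_inf.1 hx).1, 1, one_mem _, by rw [one_smul]; exact (mem_inf.1 hx).2⟩
    · intro x hx
      exact ⟨hK hx, x, hx, rfl⟩
  rcases h.two a c hac (stabilizer G a ⊓ stabilizer G c ⊔ K) le_sup_left (sup_le inf_le_left hK) with h2 | h2
  · exfalso
    apply hc
    exact (le_sup_right : K ≤ stabilizer G a ⊓ stabilizer G c ⊔ K).trans (h2.le.trans inf_le_right)
  · rw [h2] at h1
    exact (h1 hg).2

/-- **(F1)** A nontrivial normal subgroup of the stabiliser of a point fixes no other point. -/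
theorem F1 [Finite Ω] [FaithfulSMul G Ω] (Kf : Ω → Subgroup G)
    (hle : ∀ p, Kf p ≤ stabilizer G p) (hK : ∀ (g : G) p, Kf (g • p) = cj g (Kf p)) {a b : Ω} (hab : b ≠ a)
    (hb : Kf a ≤ stabilizer G b) : Kf a = ⊥ := by
  by_contra hne
  classical
  have hfin : Fintype Ω := Fintype.ofFinite Ω
  have hKn : ∀ p : Ω, ∀ g ∈ stabilizer G p, ∀ k ∈ Kf p, g * k * g⁻¹ ∈ Kf p := by
    intro p g hg k hk
    have h1 := hK g p
    rw [mem_stabilizer_iff.1 hg] at h1
    rw [h1]
    exact conj_mem_cj hk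
  have hequi : ∀ (g : G) (p q : Ω), Kf (g • p) ≤ stabilizer G (g • q) ↔ Kf p ≤ stabilizer G q := by
    intro g p q
    rw [hK, stab_smul]
    constructor
    · intro h1
      have := cj_mono (x := g⁻¹) h1
      rwa [cj_inv_cj, cj_inv_cj] at this
    · exact cj_mono
  have hKne : ∀ p : Ω, Kf p ≠ ⊥ := by
    intro p
    obtain ⟨g, rfl⟩ := h.exists_smul a p
    rw [hK, Ne, cj_eq_bot_iff]
    exact hne
  have hex : ∀ p : Ω, ∃ q : Ω, q ≠ p ∧ Kf p ≤ stabilizer G q := by
    intro p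
    obtain ⟨g, rfl⟩ := h.exists_smul a p
    exact ⟨g • b, fun e => hab (smul_left_cancel g e), (hequi g a b).2 hb⟩
  -- a pair outside
  have hout : ∃ pc : Ω × Ω, ¬ Kf pc.1 ≤ stabilizer G pc.2 := by
    by_contra hcon
    push Not at hcon
    apply hne
    rw [Subgroup.eq_bot_iff_forall]
    intro x hx
    apply FaithfulSMul.eq_of_smul_eq_smul (α := Ω)
    intro c
    rw [one_smul]
    exact hcon (a, c) hx
  -- the length of the suborbit
  let ℓ : Ω × Ω → ℕ := fun pc => Set.ncard {x | ∃ g ∈ stabilizer G pc.1, g • pc.2 = x}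
  obtain ⟨⟨p, c⟩, hpc, hmax⟩ := Set.exists_max_image {pc : Ω × Ω | ¬ Kf pc.1 ≤ stabilizer G pc.2} ℓ
    (Set.toFinite _) hout
  simp only [Set.mem_ofPred_eq] at hpc
  have hcp : c ≠ p := fun e => hpc (e ▸ hle _)
  -- `c ∈ Γ(q)` for all `q ∈ Γ(p)`, `q ≠ p`
  have key : ∀ q, q ≠ p → Kf p ≤ stabilizer G q → Kf q ≤ stabilizer G c := by
    intro q hqp hq
    by_contra hqc
    have h1 : {x | ∃ g ∈ stabilizer G p, g • c = x} ⊆ {x | ∃ g ∈ stabilizer G q, g • c = x} := by
      rintro x ⟨g, hg, rfl⟩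
      obtain ⟨k, hk, e⟩ := h.orbit_of_normal hcp (hle p) (hKn p) hpc hg
      exact ⟨k, hq hk, e.symm⟩
    have h2 : {x | ∃ g ∈ stabilizer G p, g • c = x} = {x | ∃ g ∈ stabilizer G q, g • c = x} :=
      Set.eq_of_subset_of_ncard_le h1 (hmax (q, c) hqc) (Set.toFinite _)
    have h3 : p ∈ {x | ∃ g ∈ stabilizer G p, g • c = x} := by
      refine h.eq_univ_of_two hqp.symm (S := {x | ∃ g ∈ stabilizer G p, g • c = x}) ?_ ?_
        ⟨c, 1, one_mem _, one_smul _ _⟩ p
      · rintro g hg x ⟨k, hk, rfl⟩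
        exact ⟨g * k, mul_mem hg hk, mul_smul _ _ _⟩
      · rw [h2]
        rintro g hg x ⟨k, hk, rfl⟩
        exact ⟨g * k, mul_mem hg hk, mul_smul _ _ _⟩
    obtain ⟨g, hg, e⟩ := h3
    apply hcp
    have : g • c = g • p := e.trans (mem_stabilizer_iff.1 hg).symm
    exact smul_left_cancel g this
  -- degrees
  have hdeg : ∀ q r : Ω, Set.ncard {x : Ω | Kf q ≤ stabilizer G x} = Set.ncard {x : Ω | Kf r ≤ stabilizer G x} := by
    intro q r
    obtain ⟨g, rfl⟩ := h.exists_smul q r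
    symm
    refine Set.ncard_congr (fun (x : Ω) _ => g⁻¹ • x) ?_ ?_ ?_
    · intro x hx
      have := (hequi g q (g⁻¹ • x)).1 (by rw [smul_inv_smul]; exact hx)
      exact this
    · intro x y _ _ e
      exact smul_left_cancel _ e
    · intro x hx
      exact ⟨g • x, (hequi g q x).2 hx, inv_smul_smul _ _⟩
  have hdeg' : ∀ q r : Ω, Set.ncard {x : Ω | Kf x ≤ stabilizer G q} = Set.ncard {x : Ω | Kf x ≤ stabilizer G r} := by
    intro q r
    obtain ⟨g, rfl⟩ := h.exists_smul q r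
    symm
    refine Set.ncard_congr (fun (x : Ω) _ => g⁻¹ • x) ?_ ?_ ?_
    · intro x hx
      have := (hequi g (g⁻¹ • x) q).1 (by rw [smul_inv_smul]; exact hx)
      exact this
    · intro x y _ _ e
      exact smul_left_cancel _ e
    · intro x hx
      exact ⟨g • x, (hequi g x q).2 hx, inv_smul_smul _ _⟩
  have hcount : Set.ncard {x : Ω | Kf p ≤ stabilizer G x} = Set.ncard {x : Ω | Kf x ≤ stabilizer G c} := by
    have h1 : ∑ q : Ω, Set.ncard {x : Ω | Kf q ≤ stabilizer G x} = ∑ r : Ω, Set.ncard {x : Ω | Kf x ≤ stabilizer G r} := by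
      have e1 : ∀ q : Ω, Set.ncard {x : Ω | Kf q ≤ stabilizer G x} = ∑ x : Ω, if Kf q ≤ stabilizer G x then 1 else 0 := by
        intro q
        rw [Finset.sum_boole, Set.ncard_eq_toFinset_card']
        simp
      have e2 : ∀ r : Ω, Set.ncard {x : Ω | Kf x ≤ stabilizer G r} = ∑ x : Ω, if Kf x ≤ stabilizer G r then 1 else 0 := by
        intro r
        rw [Finset.sum_boole, Set.ncard_eq_toFinset_card']
        simp
      rw [Finset.sum_congr rfl fun q _ => e1 q, Finset.sum_congr rfl fun r _ => e2 r]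
      exact Finset.sum_comm
    rw [Finset.sum_congr rfl fun q _ => hdeg q p, Finset.sum_congr rfl fun r _ => hdeg' r c, Finset.sum_const,
      Finset.sum_const] at h1
    have h2 : 0 < (Finset.univ : Finset Ω).card := Finset.card_pos.2 ⟨p, Finset.mem_univ _⟩
    rw [smul_eq_mul, smul_eq_mul] at h1
    exact Nat.eq_of_mul_eq_mul_left h2 h1
  -- equality
  have hS : {q | Kf p ≤ stabilizer G q} \ {p} = {q | Kf q ≤ stabilizer G c} \ {c} := by
    apply Set.eq_of_subset_of_ncard_le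
    · rintro q ⟨hq, hqp⟩
      refine ⟨key q hqp hq, fun e => hpc ?_⟩
      rw [Set.mem_singleton_iff] at e
      rw [← e]
      exact hq
    · rw [Set.ncard_sdiff_singleton_of_mem (show c ∈ {q | Kf q ≤ stabilizer G c} from hle c),
        Set.ncard_sdiff_singleton_of_mem (show p ∈ {q | Kf p ≤ stabilizer G q} from hle p), hcount]
    · exact Set.toFinite _
  have hfinal : p ∈ {q | Kf p ≤ stabilizer G q} \ {p} := by
    refine h.eq_univ_of_two hcp.symm (S := {q | Kf p ≤ stabilizer G q} \ {p}) ?_ ?_ ?_ p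
    · rintro g hg x ⟨hx, hxp⟩
      refine ⟨?_, ?_⟩
      · have h1 := (hequi g p x).2 hx
        rw [mem_stabilizer_iff.1 hg] at h1
        exact h1
      · rw [Set.mem_singleton_iff] at hxp ⊢
        intro e
        apply hxp
        have : g • x = g • p := e.trans (mem_stabilizer_iff.1 hg).symm
        exact smul_left_cancel g this
    · rw [hS]
      rintro g hg x ⟨hx, hxc⟩
      refine ⟨?_, ?_⟩
      · have h1 := (hequi g x c).2 hx
        rw [mem_stabilizer_iff.1 hg] at h1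
        exact h1
      · rw [Set.mem_singleton_iff] at hxc ⊢
        intro e
        apply hxc
        have : g • x = g • c := e.trans (mem_stabilizer_iff.1 hg).symm
        exact smul_left_cancel g this
    · obtain ⟨q, hqp, hq⟩ := hex p
      exact ⟨q, hq, hqp⟩
  exact hfinal.2 rfl

/-- **(F1)** A nontrivial normal subgroup of the stabiliser of a point fixes no other point. -/
theorem F1' [Finite Ω] [FaithfulSMul G Ω] {a b : Ω} (hab : b ≠ a) {K : Subgroup G} (hK : K ≤ stabilizer G a)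
    (hn : ∀ g ∈ stabilizer G a, ∀ k ∈ K, g * k * g⁻¹ ∈ K) (hb : K ≤ stabilizer G b) : K = ⊥ := by
  classical
  choose c hc using fun p => h.exists_smul a p
  have hcs : ∀ s ∈ stabilizer G a, cj s K = K := by
    intro s hs
    apply le_antisymm
    · rintro _ ⟨k, hk, rfl⟩
      exact hn s hs k hk
    · intro k hk
      rw [mem_cj]
      have := hn s⁻¹ (inv_mem hs) k hk
      rwa [inv_inv] at this
  have h1 : ∀ (g : G) (p : Ω), cj (c (g • p)) K = cj g (cj (c p) K) := by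
    intro g p
    have e : c (g • p) = g * c p * ((g * c p)⁻¹ * c (g • p)) := by group
    have hs : (g * c p)⁻¹ * c (g • p) ∈ stabilizer G a := by
      rw [mem_stabilizer_iff, mul_smul, hc, inv_smul_eq_iff, mul_smul, hc]
    rw [e, cj_mul, hcs _ hs, cj_mul]
  have h2 : cj (c a) K = K := hcs _ (hc a)
  have h3 := h.F1 (fun p => cj (c p) K) (fun p => by
    conv_rhs => rw [← hc p]
    rw [stab_smul]
    exact cj_mono hK) h1 hab (by rw [h2]; exact hb)
  rwa [h2] at h3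

end EPA

/-! ## The group form -/

/-- Extremely primitive pair, group form: `H` is maximal, core free, not trivial, `H ∩ H^x` is maximal in `H` for
`x ∉ H`. -/
structure EP (H : Subgroup G) : Prop where
  max : IsCoatom H
  core : H.normalCore = ⊥
  ne : H ≠ ⊥
  two : ∀ x ∉ H, ∀ L : Subgroup G, H ⊓ cj x H ≤ L → L ≤ H → L = H ⊓ cj x H ∨ L = H

theorem EPA.toEP [FaithfulSMul G Ω] (h : EPA G Ω) (a : Ω) : EP (stabilizer G a) where
  max := h.max a
  core := by
    rw [Subgroup.eq_bot_iff_forall]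
    intro x hx
    apply FaithfulSMul.eq_of_smul_eq_smul (α := Ω)
    intro c
    rw [one_smul]
    obtain ⟨k, rfl⟩ := h.exists_smul a c
    have h6 := hx k⁻¹
    rw [inv_inv] at h6
    have h7 : k⁻¹ * x * k ∈ stabilizer G a := h6
    rw [mem_stabilizer_iff, mul_smul, mul_smul, inv_smul_eq_iff] at h7
    exact h7
  ne := h.ne a
  two := by
    intro x hx L h1 h2
    have h3 := h.two a (x • a) (fun e => hx e) L
    rw [stab_smul] at h3
    exact h3 h1 h2

/-- from the hypotheses of S3499 -/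
theorem EPA.of_preprimitive [FaithfulSMul G Ω] (hprim : IsPreprimitive G Ω) (hH : ∀ α : Ω, stabilizer G α ≠ ⊥)
    (hep : ∀ (α : Ω) (ω : Ω), IsPreprimitive (stabilizer G α) (orbit (stabilizer G α) ω)) : EPA G Ω where
  tr := hprim.toIsPretransitive
  max := by
    intro a
    have hnt : Nontrivial Ω := by
      by_contra hcon
      rw [not_nontrivial_iff_subsingleton] at hcon
      apply hH a
      rw [Subgroup.eq_bot_iff_forall]
      intro x _
      apply FaithfulSMul.eq_of_smul_eq_smul (α := Ω)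
      intro c
      exact Subsingleton.elim _ _
    exact IsPreprimitive.isCoatom_stabilizer_of_isPreprimitive G a
  ne := hH
  two := by
    intro a b hab L h1 h2
    by_cases ht : Nontrivial (orbit (stabilizer G a) b)
    · have h3 := hep a b
      have h4 : IsCoatom (stabilizer (stabilizer G a) (⟨b, mem_orbit_self b⟩ : orbit (stabilizer G a) b)) :=
        IsPreprimitive.isCoatom_stabilizer_of_isPreprimitive _ _
      have h5 : ∀ g : stabilizer G a, g ∈ stabilizer (stabilizer G a) (⟨b, mem_orbit_self b⟩ : orbit (stabilizer G a) b) ↔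
          (g : G) ∈ stabilizer G b := by
        intro g
        rw [mem_stabilizer_iff, mem_stabilizer_iff, Subtype.ext_iff]
        rfl
      by_cases h6 : L = stabilizer G a ⊓ stabilizer G b
      · exact Or.inl h6
      · right
        apply le_antisymm h2
        have h7 : stabilizer (stabilizer G a) (⟨b, mem_orbit_self b⟩ : orbit (stabilizer G a) b) <
            L.subgroupOf (stabilizer G a) := by
          refine lt_of_le_of_ne ?_ ?_
          · intro g hg
            exact h1 ⟨g.2, (h5 g).1 hg⟩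
          · intro e
            apply h6
            apply le_antisymm _ h1
            intro g hg
            refine ⟨h2 hg, ?_⟩
            have : (⟨g, h2 hg⟩ : stabilizer G a) ∈ L.subgroupOf (stabilizer G a) := hg
            rw [← e] at this
            exact (h5 _).1 this
        have h8 := h4.2 _ h7
        intro g hg
        have : (⟨g, hg⟩ : stabilizer G a) ∈ L.subgroupOf (stabilizer G a) := by rw [h8]; exact mem_top _
        exact this
    · left
      rw [not_nontrivial_iff_subsingleton] at ht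
      apply le_antisymm _ h1
      apply le_inf h2
      intro g hg
      have h3 : (⟨(⟨g, h2 hg⟩ : stabilizer G a) • b, mem_orbit b _⟩ : orbit (stabilizer G a) b) = ⟨b, mem_orbit_self b⟩ :=
        Subsingleton.elim _ _
      exact Subtype.ext_iff.1 h3

/-- from the hypotheses of S5745 -/
theorem EPA.of_isCoatom [FaithfulSMul G Ω] (hprim : IsPreprimitive G Ω) (hH : ∀ α : Ω, stabilizer G α ≠ ⊥)
    (hep : ∀ (α : Ω) (x : G), x ∉ stabilizer G α → IsCoatom ((stabilizer G α ⊓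
      (stabilizer G α).map (MulAut.conj x).toMonoidHom).subgroupOf (stabilizer G α))) : EPA G Ω where
  tr := hprim.toIsPretransitive
  max := by
    intro a
    have hnt : Nontrivial Ω := by
      by_contra hcon
      rw [not_nontrivial_iff_subsingleton] at hcon
      apply hH a
      rw [Subgroup.eq_bot_iff_forall]
      intro x _
      apply FaithfulSMul.eq_of_smul_eq_smul (α := Ω)
      intro c
      exact Subsingleton.elim _ _
    exact IsPreprimitive.isCoatom_stabilizer_of_isPreprimitive G a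
  ne := hH
  two := by
    intro a b hab L h1 h2
    obtain ⟨x, rfl⟩ := hprim.toIsPretransitive.exists_smul_eq a b
    have h4 := hep a x (fun e => hab e)
    rw [stab_smul] at h1 ⊢
    by_cases h6 : L = stabilizer G a ⊓ cj x (stabilizer G a)
    · exact Or.inl h6
    · right
      apply le_antisymm h2
      have h7 : (stabilizer G a ⊓ cj x (stabilizer G a)).subgroupOf (stabilizer G a) < L.subgroupOf (stabilizer G a) := by
        refine lt_of_le_of_ne ?_ ?_
        · intro g hg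
          exact h1 hg
        · intro e
          apply h6
          apply le_antisymm _ h1
          intro g hg
          have : (⟨g, h2 hg⟩ : stabilizer G a) ∈ L.subgroupOf (stabilizer G a) := hg
          rw [← e] at this
          exact this
      have h8 := h4.2 _ h7
      intro g hg
      have : (⟨g, hg⟩ : stabilizer G a) ∈ L.subgroupOf (stabilizer G a) := by rw [h8]; exact mem_top _
      exact this

namespace EP

variable {H : Subgroup G} (h : EP H)

include h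

theorem toEPA : EPA G (G ⧸ H) := by
  have hst : ∀ x : G, stabilizer G (x : G ⧸ H) = cj x H := by
    intro x
    have h1 : (x : G ⧸ H) = x • ((1 : G) : G ⧸ H) := by
      rw [MulAction.Quotient.smul_coe, smul_eq_mul, mul_one]
    rw [h1, stab_smul, MulAction.stabilizer_quotient]
  have hc : IsCoatom H := h.max
  refine ⟨inferInstance, ?_, ?_, ?_⟩
  · intro a
    induction a using QuotientGroup.induction_on with
    | H x =>
      rw [hst]
      refine ⟨?_, ?_⟩
      · intro e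
        apply hc.1
        rw [← cj_inv_cj x H, e, Subgroup.eq_top_iff']
        intro g
        rw [mem_cj]
        exact mem_top _
      · intro L hL
        have h1 : H < cj x⁻¹ L := by
          refine lt_of_le_of_ne (cj_le_iff.1 hL.le) ?_
          intro e
          apply hL.ne
          rw [e, cj_cj_inv]
        have h2 := hc.2 _ h1
        rw [Subgroup.eq_top_iff']
        intro g
        have h3 : x⁻¹ * g * x ∈ cj x⁻¹ L := by rw [h2]; exact mem_top _
        rw [mem_cj] at h3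
        have e : x⁻¹⁻¹ * (x⁻¹ * g * x) * x⁻¹ = g := by group
        rwa [e] at h3
  · intro a
    induction a using QuotientGroup.induction_on with
    | H x =>
      rw [hst, Ne, cj_eq_bot_iff]
      exact h.ne
  · intro a b hab L h1 h2
    induction a using QuotientGroup.induction_on with
    | H x =>
      induction b using QuotientGroup.induction_on with
      | H y =>
        rw [hst, hst] at h1 ⊢
        rw [hst] at h2
        have hy : x⁻¹ * y ∉ H := by
          intro e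
          apply hab
          exact (QuotientGroup.eq.2 e).symm
        have e1 : H ⊓ cj (x⁻¹ * y) H = cj x⁻¹ (cj x H ⊓ cj y H) := by
          rw [cj_mul, cj_inf, cj_inv_cj]
        have h3 := h.two _ hy (cj x⁻¹ L) (by rw [e1]; exact cj_mono h1)
          (by have := cj_mono (x := x⁻¹) h2; rwa [cj_inv_cj] at this)
        rw [e1] at h3
        rcases h3 with h3 | h3
        · left
          rw [← cj_cj_inv x L, h3, cj_cj_inv]
        · right
          rw [← cj_cj_inv x L, h3]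

theorem faithful : FaithfulSMul G (G ⧸ H) := by
  constructor
  intro g k hgk
  have h1 : k⁻¹ * g ∈ H.normalCore := by
    rw [Subgroup.normalCore_eq_ker, MonoidHom.mem_ker]
    ext c
    rw [map_mul, map_inv, Equiv.Perm.mul_apply, Equiv.Perm.inv_def, Equiv.symm_apply_eq]
    exact hgk c
  rw [h.core, mem_bot, inv_mul_eq_one] at h1
  exact h1.symm

/-- **(F1)**: a nontrivial normal subgroup of `H` is in no other conjugate. -/
theorem F1 [Finite G] {K : Subgroup G} (hK : K ≤ H) (hn : ∀ g ∈ H, ∀ k ∈ K, g * k * g⁻¹ ∈ K) {x : G} (hx : x ∉ H)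
    (hKx : K ≤ cj x H) : K = ⊥ := by
  have := h.faithful
  have hst : ∀ x : G, stabilizer G (x : G ⧸ H) = cj x H := by
    intro x
    have h1 : (x : G ⧸ H) = x • ((1 : G) : G ⧸ H) := by
      rw [MulAction.Quotient.smul_coe, smul_eq_mul, mul_one]
    rw [h1, stab_smul, MulAction.stabilizer_quotient]
  apply h.toEPA.F1' (a := ((1 : G) : G ⧸ H)) (b := (x : G ⧸ H))
  · intro e
    apply hx
    have := QuotientGroup.eq.1 e.symm
    rwa [inv_one, one_mul] at this
  · rw [MulAction.stabilizer_quotient]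
    exact hK
  · rw [MulAction.stabilizer_quotient]
    exact hn
  · rw [hst]
    exact hKx

/-- `H = K (H ∩ H^x)` for `1 ≠ K ⊴ H`, `x ∉ H` -/
theorem fac [Finite G] {K : Subgroup G} (hK : K ≤ H) (hn : ∀ g ∈ H, ∀ k ∈ K, g * k * g⁻¹ ∈ K) (hne : K ≠ ⊥) {x : G}
    (hx : x ∉ H) {g : G} (hg : g ∈ H) : ∃ k ∈ K, ∃ m ∈ H ⊓ cj x H, g = k * m := by
  have h1 : K ⊔ (H ⊓ cj x H) = H := by
    rcases h.two x hx (K ⊔ (H ⊓ cj x H)) le_sup_right (sup_le hK inf_le_left) with h2 | h2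
    · exfalso
      apply hne
      exact h.F1 hK hn hx ((le_sup_left.trans h2.le).trans inf_le_right)
    · exact h2
  let T : Subgroup G :=
    { carrier := {g | g ∈ H ∧ ∃ k ∈ K, ∃ m ∈ H ⊓ cj x H, g = k * m}
      one_mem' := ⟨one_mem _, 1, one_mem _, 1, one_mem _, (one_mul 1).symm⟩
      mul_mem' := by
        rintro g₁ g₂ ⟨h1, k₁, hk₁, m₁, hm₁, e₁⟩ ⟨h2, k₂, hk₂, m₂, hm₂, e₂⟩
        refine ⟨mul_mem h1 h2, k₁ * (m₁ * k₂ * m₁⁻¹), mul_mem hk₁ (hn _ (mem_inf.1 hm₁).1 _ hk₂), m₁ * m₂,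
          mul_mem hm₁ hm₂, ?_⟩
        rw [e₁, e₂]
        group
      inv_mem' := by
        rintro g ⟨h1, k, hk, m, hm, e⟩
        refine ⟨inv_mem h1, m⁻¹ * k⁻¹ * m⁻¹⁻¹, hn _ (inv_mem (mem_inf.1 hm).1) _ (inv_mem hk), m⁻¹, inv_mem hm, ?_⟩
        rw [e]
        group }
  have h3 : K ⊔ (H ⊓ cj x H) ≤ T := by
    apply sup_le
    · intro k hk
      exact ⟨hK hk, k, hk, 1, one_mem _, (mul_one k).symm⟩
    · intro m hm
      exact ⟨(mem_inf.1 hm).1, 1, one_mem _, m, hm, (one_mul m).symm⟩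
  rw [h1] at h3
  exact (h3 hg).2

theorem not_le_cj [Finite G] {x : G} (hx : x ∉ H) : ¬ H ≤ cj x H := fun e =>
  h.ne (h.F1 le_rfl (fun _ hg _ hk => mul_mem (mul_mem hg hk) (inv_mem hg)) hx e)

/-- **(F3)** `N_H(X) = H ∩ H^x` for `1 ≠ X ⊴ H ∩ H^x`. -/
theorem norm [Finite G] {x : G} (hx : x ∉ H) {X : Subgroup G} (hX : X ≤ H ⊓ cj x H)
    (hXn : ∀ m ∈ H ⊓ cj x H, ∀ k ∈ X, m * k * m⁻¹ ∈ X) (hne : X ≠ ⊥) {g : G} (hg : g ∈ H)
    (hgX : ∀ k ∈ X, g * k * g⁻¹ ∈ X) : g ∈ cj x H := by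
  have hgn : ∀ g : G, (∀ k ∈ X, g * k * g⁻¹ ∈ X) → ∀ k ∈ X, g⁻¹ * k * g⁻¹⁻¹ ∈ X := by
    intro g hg k hk
    have h1 : cj g X = X := by
      apply Subgroup.eq_of_le_of_card_ge
      · rintro _ ⟨k, hk, rfl⟩
        exact hg k hk
      · rw [card_cj]
    rw [← h1, mem_cj] at hk
    rwa [inv_inv]
  let L : Subgroup G :=
    { carrier := {g | g ∈ H ∧ ∀ k ∈ X, g * k * g⁻¹ ∈ X}
      one_mem' := ⟨one_mem _, fun k hk => by rwa [one_mul, inv_one, mul_one]⟩
      mul_mem' := by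
        rintro g₁ g₂ ⟨h1, h2⟩ ⟨h3, h4⟩
        refine ⟨mul_mem h1 h3, fun k hk => ?_⟩
        have := h2 _ (h4 k hk)
        have e : g₁ * g₂ * k * (g₁ * g₂)⁻¹ = g₁ * (g₂ * k * g₂⁻¹) * g₁⁻¹ := by group
        rwa [e]
      inv_mem' := by
        rintro g ⟨h1, h2⟩
        exact ⟨inv_mem h1, hgn g h2⟩ }
  rcases h.two x hx L (fun m hm => ⟨(mem_inf.1 hm).1, hXn m hm⟩) (fun g hg => hg.1) with h1 | h1
  · have : g ∈ L := ⟨hg, hgX⟩
    rw [h1] at this
    exact (mem_inf.1 this).2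
  · exfalso
    apply hne
    apply h.F1 (hX.trans inf_le_left) _ hx (hX.trans inf_le_right)
    intro k hk
    rw [← h1] at hk
    exact hk.2

/-- **(F4)** Commuting nontrivial normal subgroups are semiregular outside. -/
theorem comm_inf [Finite G] {X Y : Subgroup G} (hX : X ≤ H) (hXn : ∀ g ∈ H, ∀ k ∈ X, g * k * g⁻¹ ∈ X)
    (hY : Y ≤ H) (hYn : ∀ g ∈ H, ∀ k ∈ Y, g * k * g⁻¹ ∈ Y) (hYne : Y ≠ ⊥)
    (hXY : ∀ a ∈ X, ∀ b ∈ Y, a * b = b * a) {x : G} (hx : x ∉ H) : X ⊓ cj x H = ⊥ := by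
  apply h.F1 (inf_le_left.trans hX) _ hx inf_le_right
  intro g hg k hk
  obtain ⟨hk1, hk2⟩ := mem_inf.1 hk
  obtain ⟨y, hy, m, hm, rfl⟩ := h.fac hY hYn hYne hx hg
  have h1 : m * k * m⁻¹ ∈ X := hXn m (mem_inf.1 hm).1 k hk1
  have h2 : y * m * k * (y * m)⁻¹ = m * k * m⁻¹ := by
    have h3 := hXY _ h1 y hy
    calc y * m * k * (y * m)⁻¹ = y * (m * k * m⁻¹) * y⁻¹ := by group
      _ = m * k * m⁻¹ := by rw [← h3]; group
  rw [h2]
  exact ⟨h1, (cj x H).mul_mem ((cj x H).mul_mem (mem_inf.1 hm).2 hk2) ((cj x H).inv_mem (mem_inf.1 hm).2)⟩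

/-- a normal subgroup of `H` which is semiregular outside has order `|H : H ∩ H^x|` -/
theorem card_of_inf [Finite G] {X : Subgroup G} (hX : X ≤ H) (hXn : ∀ g ∈ H, ∀ k ∈ X, g * k * g⁻¹ ∈ X)
    (hne : X ≠ ⊥) {x : G} (hx : x ∉ H) (hinf : X ⊓ cj x H = ⊥) :
    Nat.card X * Nat.card (H ⊓ cj x H : Subgroup G) = Nat.card H := by
  rw [← Nat.card_prod]
  apply Nat.card_congr
  refine Equiv.ofBijective (fun p => (⟨p.1.1 * p.2.1, mul_mem (hX p.1.2) (mem_inf.1 p.2.2).1⟩ : H)) ⟨?_, ?_⟩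
  · rintro ⟨a, b⟩ ⟨c, d⟩ e
    have e1 : (a : G) * b = c * d := Subtype.ext_iff.1 e
    have e2 : (c : G)⁻¹ * a = d * (b : G)⁻¹ := by
      rw [inv_mul_eq_iff_eq_mul, ← mul_assoc, ← e1, mul_assoc, mul_inv_cancel, mul_one]
    have h1 : (c : G)⁻¹ * a ∈ X ⊓ cj x H := by
      refine ⟨X.mul_mem (X.inv_mem c.2) a.2, ?_⟩
      rw [e2]
      exact (cj x H).mul_mem (mem_inf.1 d.2).2 ((cj x H).inv_mem (mem_inf.1 b.2).2)
    rw [hinf, mem_bot] at h1
    rw [h1] at e2
    rw [inv_mul_eq_one] at h1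
    have h2 : (d : G) = b := by
      rw [eq_comm, mul_inv_eq_one] at e2
      exact e2
    exact Prod.ext (Subtype.ext h1.symm) (Subtype.ext h2.symm)
  · rintro ⟨g, hg⟩
    obtain ⟨k, hk, m, hm, e⟩ := h.fac hX hXn hne hx hg
    exact ⟨(⟨k, hk⟩, ⟨m, hm⟩), Subtype.ext e.symm⟩

/-- **(F4)** -/
theorem card_comm [Finite G] {X Y : Subgroup G} (hX : X ≤ H) (hXn : ∀ g ∈ H, ∀ k ∈ X, g * k * g⁻¹ ∈ X) (hXne : X ≠ ⊥)
    (hY : Y ≤ H) (hYn : ∀ g ∈ H, ∀ k ∈ Y, g * k * g⁻¹ ∈ Y) (hYne : Y ≠ ⊥)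
    (hXY : ∀ a ∈ X, ∀ b ∈ Y, a * b = b * a) (hH : H ≠ ⊤) : Nat.card X = Nat.card Y := by
  obtain ⟨x, hx⟩ : ∃ x, x ∉ H := by
    by_contra hcon
    push Not at hcon
    exact hH ((Subgroup.eq_top_iff' H).2 hcon)
  have h1 := h.card_of_inf hX hXn hXne hx (h.comm_inf hX hXn hY hYn hYne hXY hx)
  have h2 := h.card_of_inf hY hYn hYne hx (h.comm_inf hY hYn hX hXn hXne (fun a ha b hb => (hXY b hb a ha).symm) hx)
  exact Nat.eq_of_mul_eq_mul_right Nat.card_pos (h1.trans h2.symm)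

end EP


/-- A group of automorphisms without proper nontrivial invariant subgroups which has a normal `r`-subgroup without
fixed points: the group is abelian. -/
theorem reg_core {N : Type*} [Group N] [Finite N] (S R : Subgroup (MulAut N)) {r : ℕ} (hr : r.Prime)
    (hRn : ∀ s ∈ S, ∀ t ∈ R, s * t * s⁻¹ ∈ R) (hRp : IsPGroup r R) (hfix : ∀ n : N, (∀ ρ ∈ R, ρ n = n) → n = 1)
    (hirr : ∀ L : Subgroup N, (∀ s ∈ S, ∀ l ∈ L, s l ∈ L) → L = ⊥ ∨ L = ⊤) (a b : N) : a * b = b * a := by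
  classical
  have := Fact.mk hr
  have hRfin : Finite R := inferInstance
  by_cases hN : Nat.card N = 1
  · have := (Nat.card_eq_one_iff_unique.1 hN).1
    exact Subsingleton.elim _ _
  -- `r` does not divide the order
  have hrN : ¬ r ∣ Nat.card N := by
    intro hdiv
    have h1 := hRp.card_modEq_card_fixedPoints N
    have h2 : Nat.card (fixedPoints R N) = 1 := by
      rw [Nat.card_eq_one_iff_unique]
      refine ⟨⟨?_⟩, ⟨1, fun ρ => smul_one ρ⟩⟩
      rintro ⟨x, hx⟩ ⟨y, hy⟩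
      apply Subtype.ext
      show x = y
      rw [hfix x (fun ρ hρ => hx ⟨ρ, hρ⟩), hfix y (fun ρ hρ => hy ⟨ρ, hρ⟩)]
    rw [h2] at h1
    have h3 : (Nat.card N) % r = 0 := Nat.mod_eq_zero_of_dvd hdiv
    rw [Nat.ModEq, h3, Nat.mod_eq_of_lt hr.one_lt] at h1
    omega
  obtain ⟨p, hp, hpN⟩ := Nat.exists_prime_and_dvd hN
  have := Fact.mk hp
  -- an invariant Sylow subgroup
  have hSyl : ∃ Q : Sylow p N, ∀ ρ : R, ρ • Q = Q := by
    have h1 : ¬ r ∣ Nat.card (Sylow p N) := by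
      intro hdiv
      apply hrN
      apply hdiv.trans
      have Q0 : Sylow p N := default
      exact (Sylow.card_dvd_index Q0).trans (Subgroup.index_dvd_card _)
    obtain ⟨Q, hQ⟩ := hRp.nonempty_fixed_point_of_prime_not_dvd_card (Sylow p N) h1
    exact ⟨Q, hQ⟩
  obtain ⟨Q, hQ⟩ := hSyl
  have huniq : ∀ Q' : Sylow p N, (∀ ρ : R, ρ • Q' = Q') → Q' = Q := by
    intro Q' hQ'
    have h0 : ∀ (ρ : R) (n : N) (P : Sylow p N), ρ • (n • P) = (ρ • n) • (ρ • P) := by
      intro ρ n P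
      apply Sylow.ext
      ext x
      constructor
      · rintro ⟨y, ⟨z, hz, rfl⟩, rfl⟩
        refine ⟨_, ⟨z, hz, rfl⟩, ?_⟩
        show (ρ • n) * (ρ • z) * (ρ • n)⁻¹ = ρ • (n * z * n⁻¹)
        rw [smul_mul', smul_mul', smul_inv']
      · rintro ⟨y, ⟨z, hz, rfl⟩, rfl⟩
        refine ⟨_, ⟨z, hz, rfl⟩, ?_⟩
        show ρ • (n * z * n⁻¹) = (ρ • n) * (ρ • z) * (ρ • n)⁻¹
        rw [smul_mul', smul_mul', smul_inv']
    let Z := {n : N // n • Q = Q'}
    let _ : MulAction R Z :=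
      { smul := fun ρ n => ⟨ρ • n.1, by
          have := h0 ρ n.1 Q
          rw [n.2, hQ', hQ] at this
          exact this.symm⟩
        one_smul := fun n => Subtype.ext (one_smul _ _)
        mul_smul := fun ρ τ n => Subtype.ext (mul_smul _ _ _) }
    have h1 : ¬ r ∣ Nat.card Z := by
      intro hdiv
      apply hrN
      apply hdiv.trans
      obtain ⟨n0, hn0⟩ := MulAction.exists_smul_eq N Q Q'
      have h2 : Nat.card Z = Nat.card (stabilizer N Q) := by
        apply Nat.card_congr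
        refine ⟨fun n => ⟨n0⁻¹ * n.1, ?_⟩, fun n => ⟨n0 * n.1, ?_⟩, fun n => ?_, fun n => ?_⟩
        · rw [mem_stabilizer_iff, mul_smul, n.2, ← hn0, inv_smul_smul]
        · rw [mul_smul, n.2, hn0]
        · exact Subtype.ext (mul_inv_cancel_left _ _)
        · exact Subtype.ext (inv_mul_cancel_left _ _)
      rw [h2]
      exact Subgroup.card_subgroup_dvd_card _
    obtain ⟨n, hn⟩ := hRp.nonempty_fixed_point_of_prime_not_dvd_card Z h1
    have h2 : n.1 = 1 := by
      apply hfix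
      intro ρ hρ
      exact Subtype.ext_iff.1 (hn ⟨ρ, hρ⟩)
    rw [← n.2, h2, one_smul]
  have hQS : ∀ s ∈ S, ∀ l ∈ (Q : Subgroup N), s l ∈ (Q : Subgroup N) := by
    intro s hs l hl
    have h1 : s • Q = Q := by
      apply huniq
      intro ρ
      have h2 := hRn s⁻¹ (inv_mem hs) ρ ρ.2
      rw [inv_inv] at h2
      have h3 := hQ ⟨_, h2⟩
      have h4 : (s⁻¹ * (ρ : MulAut N) * s) • Q = Q := h3
      rw [mul_smul, mul_smul, inv_smul_eq_iff] at h4
      exact h4
    have h2 : s • l ∈ ((s • Q : Sylow p N) : Subgroup N) := ⟨l, hl, rfl⟩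
    rw [h1] at h2
    exact h2
  have hQtop : (Q : Subgroup N) = ⊤ := by
    rcases hirr Q hQS with h1 | h1
    · exfalso
      exact Sylow.ne_bot_of_dvd_card Q hpN h1
    · exact h1
  have hNp : IsPGroup p N := by
    have h1 := Q.isPGroup'
    rw [hQtop] at h1
    exact h1.of_equiv Subgroup.topEquiv
  -- the center
  have : Nontrivial N := by
    by_contra hcon
    rw [not_nontrivial_iff_subsingleton] at hcon
    exact hN (Nat.card_eq_one_iff_unique.2 ⟨hcon, ⟨1⟩⟩)
  rcases hirr (center N) (fun s _ l hl => by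
    rw [mem_center_iff] at hl ⊢
    intro g
    have h1 := hl (s⁻¹ g)
    have h2 := congrArg s h1
    rw [map_mul, map_mul, MulAut.apply_inv_self] at h2
    exact h2) with h1 | h1
  · exfalso
    have := hNp.center_nontrivial
    rw [h1] at this
    exact not_subsingleton (⊥ : Subgroup N) inferInstance
  · have : b ∈ center N := by rw [h1]; exact mem_top _
    exact (mem_center_iff.1 this a)

/-- A solvable group of automorphisms without proper nontrivial invariant subgroups: the group is abelian. -/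
theorem reg_comm {N : Type*} [Group N] [Finite N] (S : Subgroup (MulAut N)) (hS : Group.IsSolvable S)
    (hirr : ∀ L : Subgroup N, (∀ s ∈ S, ∀ l ∈ L, s l ∈ L) → L = ⊥ ∨ L = ⊤) (a b : N) : a * b = b * a := by
  classical
  by_cases hS1 : S = ⊥
  · -- no proper subgroups
    by_cases ha : a = 1
    · rw [ha, one_mul, mul_one]
    rcases hirr (zpowers a) (fun s hs l hl => by
      rw [hS1, mem_bot] at hs
      rw [hs]; exact hl) with h1 | h1
    · exact absurd (zpowers_eq_bot.1 h1) ha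
    · have hb : b ∈ zpowers a := by rw [h1]; exact mem_top _
      obtain ⟨k, rfl⟩ := mem_zpowers_iff.1 hb
      exact (Commute.refl a).zpow_right k
  · -- the last nontrivial derived subgroup
    have hfinS : Finite S := inferInstance
    obtain ⟨R, r, hr, hRS, hRn, hRne, hRp⟩ : ∃ (R : Subgroup (MulAut N)) (r : ℕ), r.Prime ∧ R ≤ S ∧
        (∀ s ∈ S, ∀ t ∈ R, s * t * s⁻¹ ∈ R) ∧ R ≠ ⊥ ∧ IsPGroup r R := by
      obtain ⟨n, hn⟩ := hS.solvable
      have hex : ∃ n, derivedSeries S n = ⊥ := ⟨n, hn⟩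
      set m := Nat.find hex with hm
      have hm0 : derivedSeries S m = ⊥ := Nat.find_spec hex
      have hmpos : m ≠ 0 := by
        intro e
        rw [e, derivedSeries_zero] at hm0
        apply hS1
        rw [Subgroup.eq_bot_iff_forall]
        intro x hx
        have h1 : (⟨x, hx⟩ : S) ∈ (⊤ : Subgroup S) := mem_top _
        rw [hm0, mem_bot] at h1
        exact Subtype.ext_iff.1 h1
      obtain ⟨k, hk⟩ := Nat.exists_eq_succ_of_ne_zero hmpos
      set D := derivedSeries S k with hD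
      have hDne : D ≠ ⊥ := Nat.find_min hex (by omega)
      have hDab : ∀ x ∈ D, ∀ y ∈ D, x * y = y * x := by
        intro x hx y hy
        have h1 : ⁅x, y⁆ ∈ derivedSeries S (k + 1) := by
          rw [derivedSeries_succ]
          exact commutator_mem_commutator hx hy
        rw [← Nat.succ_eq_add_one, ← hk, hm0, mem_bot] at h1
        exact commutatorElement_eq_one_iff_mul_comm.1 h1
      have hDn : D.Normal := derivedSeries_normal S k
      have hDfin : Finite D := inferInstance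
      have hcard : Nat.card D ≠ 1 := by
        intro e
        exact hDne (Subgroup.card_eq_one.1 e)
      obtain ⟨r, hr, hrd⟩ := Nat.exists_prime_and_dvd hcard
      have := Fact.mk hr
      obtain ⟨d, hd⟩ := exists_prime_orderOf_dvd_card' r hrd
      let R0 : Subgroup S :=
        { carrier := {x | x ∈ D ∧ x ^ r = 1}
          one_mem' := ⟨one_mem _, one_pow _⟩
          mul_mem' := by
            rintro x y ⟨hx, hx'⟩ ⟨hy, hy'⟩
            refine ⟨mul_mem hx hy, ?_⟩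
            rw [(show Commute x y from hDab x hx y hy).mul_pow, hx', hy', one_mul]
          inv_mem' := by
            rintro x ⟨hx, hx'⟩
            exact ⟨inv_mem hx, by rw [inv_pow, hx', inv_one]⟩ }
      refine ⟨R0.map S.subtype, r, hr, ?_, ?_, ?_, ?_⟩
      · rintro _ ⟨x, _, rfl⟩
        exact x.2
      · rintro s hs _ ⟨x, ⟨hx, hx'⟩, rfl⟩
        refine ⟨(⟨s, hs⟩ * x * ⟨s, hs⟩⁻¹ :), ⟨hDn.conj_mem x hx _, ?_⟩, rfl⟩
        rw [conj_pow, hx', mul_one, mul_inv_cancel]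
      · intro e
        rw [Subgroup.map_eq_bot_iff_of_injective _ S.subtype_injective] at e
        have h1 : (d : S) ∈ R0 := ⟨d.2, by
          have := pow_orderOf_eq_one d
          rw [hd] at this
          exact Subtype.ext_iff.1 this⟩
        rw [e, mem_bot] at h1
        have h2 : d = 1 := Subtype.ext h1
        rw [h2, orderOf_one] at hd
        exact hr.one_lt.ne hd
      · rintro ⟨_, x, ⟨hx, hx'⟩, rfl⟩
        refine ⟨1, ?_⟩
        rw [pow_one]
        apply Subtype.ext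
        show (S.subtype x) ^ r = 1
        rw [← map_pow, hx', map_one]
    have := Fact.mk hr
    -- the fixed points of `R`
    have hfix : ∀ n : N, (∀ ρ ∈ R, ρ n = n) → n = 1 := by
      let C : Subgroup N :=
        { carrier := {n | ∀ ρ ∈ R, ρ n = n}
          one_mem' := fun ρ _ => map_one ρ
          mul_mem' := fun {x y} hx hy ρ hρ => by rw [map_mul, hx ρ hρ, hy ρ hρ]
          inv_mem' := fun {x} hx ρ hρ => by rw [map_inv, hx ρ hρ] }
      rcases hirr C (fun s hs n hn ρ hρ => by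
        have h1 := hRn s⁻¹ (inv_mem hs) ρ hρ
        rw [inv_inv] at h1
        have h2 := hn _ h1
        have h3 : s ((s⁻¹ * ρ * s) n) = s n := by rw [h2]
        rw [MulAut.mul_apply, MulAut.mul_apply, MulAut.apply_inv_self] at h3
        exact h3) with h1 | h1
      · intro n hn
        have : n ∈ C := hn
        rw [h1, mem_bot] at this
        exact this
      · exfalso
        apply hRne
        rw [Subgroup.eq_bot_iff_forall]
        intro ρ hρ
        ext n
        have : n ∈ C := by rw [h1]; exact mem_top _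
        exact this ρ hρ
    exact reg_core S R hr hRn hRp hfix hirr a b


theorem mem_sup_norm {M N : Subgroup G} (hMN : ∀ m ∈ M, ∀ n ∈ N, m * n * m⁻¹ ∈ N) {x : G} (hx : x ∈ M ⊔ N) :
    ∃ n ∈ N, ∃ m ∈ M, x = n * m := by
  let T : Subgroup G :=
    { carrier := {g | ∃ n ∈ N, ∃ m ∈ M, g = n * m}
      one_mem' := ⟨1, one_mem _, 1, one_mem _, (one_mul 1).symm⟩
      mul_mem' := by
        rintro g₁ g₂ ⟨k₁, hk₁, m₁, hm₁, e₁⟩ ⟨k₂, hk₂, m₂, hm₂, e₂⟩
        refine ⟨k₁ * (m₁ * k₂ * m₁⁻¹), mul_mem hk₁ (hMN _ hm₁ _ hk₂), m₁ * m₂, mul_mem hm₁ hm₂, ?_⟩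
        rw [e₁, e₂]
        group
      inv_mem' := by
        rintro g ⟨k, hk, m, hm, e⟩
        refine ⟨m⁻¹ * k⁻¹ * m⁻¹⁻¹, hMN _ (inv_mem hm) _ (inv_mem hk), m⁻¹, inv_mem hm, ?_⟩
        rw [e]
        group }
  have h3 : M ⊔ N ≤ T := by
    apply sup_le
    · intro m hm
      exact ⟨1, one_mem _, m, hm, (one_mul m).symm⟩
    · intro k hk
      exact ⟨k, hk, 1, one_mem _, (mul_one k).symm⟩
  exact h3 hx

/-- A solvable group `M` acting irreducibly on `N`: `N` is elementary abelian. -/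
theorem reg_sub [Finite G] {M N : Subgroup G} (hMN : ∀ m ∈ M, ∀ n ∈ N, m * n * m⁻¹ ∈ N) (hM : Group.IsSolvable M)
    (hirr : ∀ L : Subgroup G, L ≤ N → (∀ m ∈ M, ∀ l ∈ L, m * l * m⁻¹ ∈ L) → L = ⊥ ∨ L = N) (hN : N ≠ ⊥) :
    (∀ a ∈ N, ∀ b ∈ N, a * b = b * a) ∧ ∃ r : ℕ, r.Prime ∧ ∀ a ∈ N, a ^ r = 1 := by
  have hle : M ≤ Subgroup.normalizer (N : Set G) := by
    intro m hm
    rw [Subgroup.mem_normalizer_iff]
    intro n
    constructor
    · exact hMN m hm n
    · intro hn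
      have := hMN m⁻¹ (inv_mem hm) _ hn
      have e : m⁻¹ * (m * n * m⁻¹) * m⁻¹⁻¹ = n := by group
      rwa [e] at this
  let φ : M →* MulAut N := (N.normalizerMonoidHom).comp (inclusion hle)
  have hφ : ∀ (m : M) (n : N), ((φ m n : N) : G) = m * n * (m : G)⁻¹ := fun m n => rfl
  have hS : Group.IsSolvable φ.range := Group.isSolvable_of_surjective φ.rangeRestrict_surjective
  have hc := reg_comm φ.range hS (by
    intro L hL
    rcases hirr (L.map N.subtype) (by rintro _ ⟨l, _, rfl⟩; exact l.2) (by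
      rintro m hm _ ⟨l, hl, rfl⟩
      exact ⟨_, hL _ ⟨⟨m, hm⟩, rfl⟩ l hl, rfl⟩) with h1 | h1
    · left
      rwa [Subgroup.map_eq_bot_iff_of_injective _ N.subtype_injective] at h1
    · right
      rw [Subgroup.eq_top_iff']
      intro x
      have h2 : (x : G) ∈ L.map N.subtype := by rw [h1]; exact x.2
      obtain ⟨y, hy, e⟩ := h2
      have : y = x := Subtype.ext e
      rwa [← this])
  have hab : ∀ a ∈ N, ∀ b ∈ N, a * b = b * a := fun a ha b hb => Subtype.ext_iff.1 (hc ⟨a, ha⟩ ⟨b, hb⟩)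
  refine ⟨hab, ?_⟩
  have hcard : Nat.card N ≠ 1 := fun e => hN (Subgroup.card_eq_one.1 e)
  obtain ⟨r, hr, hrd⟩ := Nat.exists_prime_and_dvd hcard
  have := Fact.mk hr
  obtain ⟨d, hd⟩ := exists_prime_orderOf_dvd_card' r hrd
  let L : Subgroup G :=
    { carrier := {x | x ∈ N ∧ x ^ r = 1}
      one_mem' := ⟨one_mem _, one_pow _⟩
      mul_mem' := by
        rintro x y ⟨hx, hx'⟩ ⟨hy, hy'⟩
        refine ⟨mul_mem hx hy, ?_⟩
        rw [(show Commute x y from hab x hx y hy).mul_pow, hx', hy', one_mul]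
      inv_mem' := by
        rintro x ⟨hx, hx'⟩
        exact ⟨inv_mem hx, by rw [inv_pow, hx', inv_one]⟩ }
  refine ⟨r, hr, ?_⟩
  rcases hirr L (fun x hx => hx.1) (by
    rintro m hm l ⟨hl, hl'⟩
    exact ⟨hMN m hm l hl, by rw [conj_pow, hl', mul_one, mul_inv_cancel]⟩) with h1 | h1
  · exfalso
    have h2 : (d : G) ∈ L := ⟨d.2, by
      have := pow_orderOf_eq_one d
      rw [hd] at this
      exact Subtype.ext_iff.1 this⟩
    rw [h1, mem_bot] at h2
    have h3 : d = 1 := Subtype.ext h2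
    rw [h3, orderOf_one] at hd
    exact hr.one_lt.ne hd
  · intro a ha
    rw [← h1] at ha
    exact ha.2

namespace EP

variable {H : Subgroup G} (h : EP H) {T : Subgroup G} [hTn : T.Normal]

include h

theorem T_not_le (hT : T ≠ ⊥) : ¬ T ≤ H := fun e =>
  hT (le_bot_iff.1 (by rw [← h.core]; exact Subgroup.normal_le_normalCore.2 e))

theorem sup_T (hT : T ≠ ⊥) : H ⊔ T = ⊤ := by
  apply h.max.2
  rw [left_lt_sup]
  exact h.T_not_le hT

theorem exists_T (hT : T ≠ ⊥) (g : G) : ∃ t ∈ T, ∃ a ∈ H, g = t * a :=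
  mem_sup_norm (fun m _ n hn => hTn.conj_mem n hn m) (by rw [h.sup_T hT]; exact mem_top g)

/-- **(F2)** `T` is primitive: `A = H ∩ T` is maximal in `T`. -/
theorem T_max [Finite G] (hA : H ⊓ T ≠ ⊥) {L : Subgroup G} (h1 : H ⊓ T ≤ L) (h2 : L ≤ T) :
    L = H ⊓ T ∨ L = T := by
  have hAn : ∀ g ∈ H, ∀ k ∈ H ⊓ T, g * k * g⁻¹ ∈ H ⊓ T := fun g hg k hk =>
    ⟨H.mul_mem (H.mul_mem hg (mem_inf.1 hk).1) (H.inv_mem hg), hTn.conj_mem k (mem_inf.1 hk).2 g⟩
  have hLn : ∀ g ∈ H, ∀ l ∈ L, g * l * g⁻¹ ∈ L := by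
    intro g hg l hl
    by_cases hlH : l ∈ H
    · exact h1 (hAn g hg l ⟨hlH, h2 hl⟩)
    · obtain ⟨a, ha, m, hm, e⟩ := h.fac inf_le_left hAn hA hlH hg
      have hm2 : l⁻¹ * m * l ∈ H := mem_cj.1 (mem_inf.1 hm).2
      have e2 : g * l * g⁻¹ = (a * l) * (l⁻¹ * m * l * g⁻¹) := by
        rw [e]; group
      rw [e2]
      refine mul_mem (mul_mem (h1 ha) hl) (h1 ⟨H.mul_mem hm2 (H.inv_mem hg), ?_⟩)
      have h3 : g * l * g⁻¹ ∈ T := hTn.conj_mem l (h2 hl) g
      rw [e2] at h3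
      exact (Subgroup.mul_mem_cancel_left T (mul_mem (mem_inf.1 ha).2 (h2 hl))).1 h3
  by_cases hL : L = H ⊓ T
  · exact Or.inl hL
  · right
    apply le_antisymm h2
    have h3 : H ⊔ L = ⊤ := by
      apply h.max.2
      rw [left_lt_sup]
      intro e
      exact hL (le_antisymm (le_inf e h2) h1)
    intro t ht
    obtain ⟨l, hl, a, ha, e⟩ := mem_sup_norm hLn (x := t) (by rw [h3]; exact mem_top _)
    rw [e]
    refine mul_mem hl (h1 ⟨ha, ?_⟩)
    rw [e] at ht
    exact (Subgroup.mul_mem_cancel_left T (h2 hl)).1 ht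

/-- every `H`-coset representative can be taken in `T` -/
theorem exists_cj_T (hT : T ≠ ⊥) (x : G) : ∃ t ∈ T, cj x H = cj t H ∧ (x ∉ H → t ∉ H) := by
  obtain ⟨t, ht, a, ha, e⟩ := h.exists_T hT x
  refine ⟨t, ht, ?_, ?_⟩
  · rw [e, cj_mul, cj_eq_self ha]
  · intro hx htH
    exact hx (e ▸ mul_mem htH ha)

omit h in
/-- `H ⊓ T` is solvable-free: a subgroup meeting `T` trivially is solvable if `G/T` is. -/
theorem _root_.Cfsg.Agent.H284.solv_of_inf {T : Subgroup G} [T.Normal] (hsol : Group.IsSolvable (G ⧸ T))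
    {M : Subgroup G} (hM : M ⊓ T = ⊥) : Group.IsSolvable M := by
  refine Group.isSolvable_of_isSolvable_injective (f := (QuotientGroup.mk' T).comp M.subtype) ?_
  rw [injective_iff_map_eq_one]
  intro a ha
  have h1 : (a : G) ∈ T := (QuotientGroup.eq_one_iff _).1 ha
  have h2 : (a : G) ∈ M ⊓ T := ⟨a.2, h1⟩
  rw [hM, mem_bot] at h2
  exact Subtype.ext h2

/-- **(F3a)** `A = H ∩ T ≠ 1` -/
theorem inf_T_ne_bot [Finite G] (hsol : Group.IsSolvable (G ⧸ T)) (hT : T ≠ ⊥) (hTs : ¬ ∀ a ∈ T, ∀ b ∈ T, a * b = b * a) :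
    H ⊓ T ≠ ⊥ := by
  intro hA
  apply hTs
  refine (reg_sub (M := H) (N := T) (fun m _ n hn => hTn.conj_mem n hn m) (solv_of_inf hsol hA) ?_ hT).1
  intro L hL hLn
  by_cases hLH : L ≤ H
  · left
    exact le_bot_iff.1 (hA ▸ le_inf hLH hL)
  · right
    apply le_antisymm hL
    have h3 : H ⊔ L = ⊤ := by
      apply h.max.2
      rw [left_lt_sup]
      exact hLH
    intro t ht
    obtain ⟨l, hl, a, ha, e⟩ := mem_sup_norm hLn (x := t) (by rw [h3]; exact mem_top _)
    have h4 : a ∈ H ⊓ T := by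
      refine ⟨ha, ?_⟩
      rw [e] at ht
      exact (Subgroup.mul_mem_cancel_left T (hL hl)).1 ht
    rw [hA, mem_bot] at h4
    rw [e, h4, mul_one]
    exact hl

/-- `N_T(A) = A` for `T` simple -/
theorem norm_A [Finite G] (hTsim : IsSimpleGroup T) (hA : H ⊓ T ≠ ⊥) {t : G} (ht : t ∈ T)
    (hn : ∀ a ∈ H ⊓ T, t * a * t⁻¹ ∈ H ⊓ T) : t ∈ H := by
  have hT : T ≠ ⊥ := fun e => hA (by rw [e, inf_bot_eq])
  have hgn : ∀ g : G, (∀ k ∈ H ⊓ T, g * k * g⁻¹ ∈ H ⊓ T) → ∀ k ∈ H ⊓ T, g⁻¹ * k * g⁻¹⁻¹ ∈ H ⊓ T := by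
    intro g hg k hk
    have h1 : cj g (H ⊓ T) = H ⊓ T := by
      apply Subgroup.eq_of_le_of_card_ge
      · rintro _ ⟨k, hk, rfl⟩
        exact hg k hk
      · rw [card_cj]
    rw [← h1, mem_cj] at hk
    rwa [inv_inv]
  let L : Subgroup G :=
    { carrier := {g | g ∈ T ∧ ∀ k ∈ H ⊓ T, g * k * g⁻¹ ∈ H ⊓ T}
      one_mem' := ⟨one_mem _, fun k hk => by rwa [one_mul, inv_one, mul_one]⟩
      mul_mem' := by
        rintro g₁ g₂ ⟨h1, h2⟩ ⟨h3, h4⟩
        refine ⟨mul_mem h1 h3, fun k hk => ?_⟩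
        have := h2 _ (h4 k hk)
        have e : g₁ * g₂ * k * (g₁ * g₂)⁻¹ = g₁ * (g₂ * k * g₂⁻¹) * g₁⁻¹ := by group
        rwa [e]
      inv_mem' := by
        rintro g ⟨h1, h2⟩
        exact ⟨inv_mem h1, hgn g h2⟩ }
  rcases h.T_max hA (L := L) (fun g hg => ⟨(mem_inf.1 hg).2, fun k hk => mul_mem (mul_mem hg hk) (inv_mem hg)⟩)
    (fun g hg => hg.1) with h1 | h1
  · have : t ∈ L := ⟨ht, hn⟩
    rw [h1] at this
    exact (mem_inf.1 this).1
  · exfalso
    have h2 : ((H ⊓ T).subgroupOf T).Normal := by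
      constructor
      intro a ha g
      have hg : (g : G) ∈ L := by rw [h1]; exact g.2
      exact hg.2 _ ha
    rcases h2.eq_bot_or_eq_top with h3 | h3
    · apply hA
      rw [Subgroup.eq_bot_iff_forall]
      intro x hx
      have : (⟨x, (mem_inf.1 hx).2⟩ : T) ∈ (H ⊓ T).subgroupOf T := hx
      rw [h3, mem_bot] at this
      exact Subtype.ext_iff.1 this
    · apply h.T_not_le hT
      intro x hx
      have : (⟨x, hx⟩ : T) ∈ (H ⊓ T).subgroupOf T := by rw [h3]; exact mem_top _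
      exact (mem_inf.1 this).1

/-- `A` is not an elementary abelian group (Burnside's transfer theorem) -/
theorem A_not_abelian [Finite G] (hTsim : IsSimpleGroup T)
    (hA : H ⊓ T ≠ ⊥) {r : ℕ} (hr : r.Prime) (hab : ∀ a ∈ H ⊓ T, ∀ b ∈ H ⊓ T, a * b = b * a)
    (hexp : ∀ a ∈ H ⊓ T, a ^ r = 1) : False := by
  have := Fact.mk hr
  have hT : T ≠ ⊥ := fun e => hA (by rw [e, inf_bot_eq])
  have hAp : IsPGroup r ((H ⊓ T).subgroupOf T) := by
    rintro ⟨x, hx⟩
    refine ⟨1, ?_⟩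
    rw [pow_one]
    apply Subtype.ext
    apply Subtype.ext
    exact hexp _ hx
  obtain ⟨P, hP⟩ := hAp.exists_le_sylow
  -- `A` is a Sylow subgroup
  have hAP : (H ⊓ T).subgroupOf T = (P : Subgroup T) := by
    by_contra hne
    have hlt : (H ⊓ T).subgroupOf T < (P : Subgroup T) := lt_of_le_of_ne hP hne
    -- normalizer growth in `P`
    have h1 : ((H ⊓ T).subgroupOf T).subgroupOf (P : Subgroup T) < ⊤ := by
      rw [lt_top_iff_ne_top]
      intro e
      rw [Subgroup.subgroupOf_eq_top] at e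
      exact hlt.not_ge e
    have hnil : Group.IsNilpotent (P : Subgroup T) := P.isPGroup'.isNilpotent
    have h2 := Group.normalizerCondition_of_isNilpotent (G := (P : Subgroup T)) _ h1
    obtain ⟨y, hy, hyn⟩ := SetLike.exists_of_lt h2
    apply hyn
    have h3 : ((y : T) : G) ∈ H := by
      apply h.norm_A hTsim hA (y : T).2
      intro a ha
      have h4 : (⟨⟨a, (mem_inf.1 ha).2⟩, hP ha⟩ : (P : Subgroup T)) ∈
          ((H ⊓ T).subgroupOf T).subgroupOf (P : Subgroup T) := ha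
      exact (Subgroup.mem_normalizer_iff.1 hy _).1 h4
    exact ⟨h3, (y : T).2⟩
  have hcomp : Subgroup.IsComplement' (MonoidHom.transferSylow P (by
      intro y hy
      rw [Subgroup.mem_centralizer_iff]
      replace hy : y ∈ Subgroup.normalizer ((P : Subgroup T) : Set T) := hy
      rw [Subgroup.mem_normalizer_iff] at hy
      have h3 : (y : G) ∈ H := by
        apply h.norm_A hTsim hA y.2
        intro a ha
        have h4 : (⟨a, (mem_inf.1 ha).2⟩ : T) ∈ (P : Subgroup T) := hP ha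
        have h5 := (hy _).1 h4
        rw [← hAP] at h5
        exact h5
      intro z hz
      have hz' : z ∈ (P : Subgroup T) := hz
      rw [← hAP] at hz'
      apply Subtype.ext
      exact hab _ hz' _ ⟨h3, y.2⟩)).ker (P : Subgroup T) := MonoidHom.ker_transferSylow_isComplement' P _
  rcases (MonoidHom.normal_ker (MonoidHom.transferSylow P _)).eq_bot_or_eq_top with h3 | h3
  · rw [h3, Subgroup.isComplement'_bot_left] at hcomp
    rw [← hAP, Subgroup.subgroupOf_eq_top] at hcomp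
    exact h.T_not_le hT (hcomp.trans inf_le_left)
  · rw [h3, Subgroup.isComplement'_top_left] at hcomp
    rw [← hAP] at hcomp
    apply hA
    rw [Subgroup.eq_bot_iff_forall]
    intro x hx
    have : (⟨x, (mem_inf.1 hx).2⟩ : T) ∈ (H ⊓ T).subgroupOf T := hx
    rw [hcomp, mem_bot] at this
    exact Subtype.ext_iff.1 this

/-- **(F3b)** `M0 = A ∩ A^x ≠ 1` -/
theorem M0_ne_bot [Finite G] (hsol : Group.IsSolvable (G ⧸ T)) (hTsim : IsSimpleGroup T)
    (hTs : ¬ ∀ a ∈ T, ∀ b ∈ T, a * b = b * a) {x : G} (hx : x ∉ H) : H ⊓ cj x H ⊓ T ≠ ⊥ := by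
  intro hM
  have hT : T ≠ ⊥ := by
    intro e
    apply hTs
    intro a ha b hb
    rw [e, mem_bot] at ha hb
    rw [ha, hb]
  have hA := h.inf_T_ne_bot hsol hT hTs
  have hAn : ∀ g ∈ H, ∀ k ∈ H ⊓ T, g * k * g⁻¹ ∈ H ⊓ T := fun g hg k hk =>
    ⟨H.mul_mem (H.mul_mem hg (mem_inf.1 hk).1) (H.inv_mem hg), hTn.conj_mem k (mem_inf.1 hk).2 g⟩
  obtain ⟨h1, r, hr, h2⟩ := reg_sub (M := H ⊓ cj x H) (N := H ⊓ T) (fun m hm n hn => hAn m (mem_inf.1 hm).1 n hn)
    (solv_of_inf hsol hM) (by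
      intro L hL hLn
      rcases h.two x hx ((H ⊓ cj x H) ⊔ L) le_sup_left (sup_le inf_le_left (hL.trans inf_le_left)) with h3 | h3
      · left
        have h4 : L ≤ H ⊓ cj x H ⊓ T := le_inf (le_sup_right.trans h3.le) (hL.trans inf_le_right)
        exact le_bot_iff.1 (hM ▸ h4)
      · right
        apply le_antisymm hL
        intro a ha
        obtain ⟨l, hl, m, hm, e⟩ := mem_sup_norm hLn (x := a) (by rw [h3]; exact (mem_inf.1 ha).1)
        have h4 : m ∈ H ⊓ cj x H ⊓ T := by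
          refine ⟨hm, ?_⟩
          have h5 := (mem_inf.1 ha).2
          rw [e] at h5
          exact (Subgroup.mul_mem_cancel_left T (mem_inf.1 (hL hl)).2).1 h5
        rw [hM, mem_bot] at h4
        rw [e, h4, mul_one]
        exact hl) hA
  exact h.A_not_abelian hTsim hA hr h1 h2

end EP

end Cfsg.Agent.H284
end

-- part: H284/EP/Engine
section
prune_inst 0x4000000000000000800000020000000000400000000000000008000020000801000000080000000000000028100000200000000000000000000104011002000000000000000000800000080c00000000000000000000000000000000200000000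
set_option linter.all false
open scoped Cfsg.Agent.FastGrp

/-!
# Extremely primitive groups, the abstract engine, part 2 (helper284; facts of helper91, helper67, helper419)

* (F5) `EP.ab_inf`, `EP.ab_card`, `EP.ab_min`, `EP.ab_elem`, `EP.ab_cent`, `EP.ab_index`, `EP.nilp_ab`, `EP.ab_le_T` :
  abelian (nilpotent) normal subgroups of `H`;
* `EP.cent_A` : `C_H(A) = 1`; `EP.norm_char` : (F3) for characteristic subgroups of `M0`; `EP.sylow_M0`;
* `EP.abelian_M0` : if `M0` is abelian then `H` has a nontrivial abelian normal subgroup;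
* (LS) `EPA.ncard_subspace`, `EPA.card_le_sq`, `EP.index_le_sq`, `EP.fix_le`;
* (RL) `EP.RL`, `EP.RLFree`, `EP.RL_criterion`;
* (CL) `EP.CL`, `EP.cl`.
-/

set_option autoImplicit false
set_option linter.unusedSectionVars false

namespace Cfsg.Agent.H284

open MulAction Subgroup
open scoped commutatorElement

variable {G : Type*} [Group G] {Ω : Type*} [MulAction G Ω]


theorem elem_of_irr [Finite G] {M N : Subgroup G} (hMN : ∀ m ∈ M, ∀ n ∈ N, m * n * m⁻¹ ∈ N)
    (hirr : ∀ L : Subgroup G, L ≤ N → (∀ m ∈ M, ∀ l ∈ L, m * l * m⁻¹ ∈ L) → L = ⊥ ∨ L = N) (hN : N ≠ ⊥)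
    (hab : ∀ a ∈ N, ∀ b ∈ N, a * b = b * a) : ∃ r : ℕ, r.Prime ∧ ∀ a ∈ N, a ^ r = 1 := by
  have hcard : Nat.card N ≠ 1 := fun e => hN (Subgroup.card_eq_one.1 e)
  obtain ⟨r, hr, hrd⟩ := Nat.exists_prime_and_dvd hcard
  have := Fact.mk hr
  obtain ⟨d, hd⟩ := exists_prime_orderOf_dvd_card' r hrd
  let L : Subgroup G :=
    { carrier := {x | x ∈ N ∧ x ^ r = 1}
      one_mem' := ⟨one_mem _, one_pow _⟩
      mul_mem' := by
        rintro x y ⟨hx, hx'⟩ ⟨hy, hy'⟩
        refine ⟨mul_mem hx hy, ?_⟩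
        rw [(show Commute x y from hab x hx y hy).mul_pow, hx', hy', one_mul]
      inv_mem' := by
        rintro x ⟨hx, hx'⟩
        exact ⟨inv_mem hx, by rw [inv_pow, hx', inv_one]⟩ }
  refine ⟨r, hr, ?_⟩
  rcases hirr L (fun x hx => hx.1) (by
    rintro m hm l ⟨hl, hl'⟩
    exact ⟨hMN m hm l hl, by rw [conj_pow, hl', mul_one, mul_inv_cancel]⟩) with h1 | h1
  · exfalso
    have h2 : (d : G) ∈ L := ⟨d.2, by
      have := pow_orderOf_eq_one d
      rw [hd] at this
      exact Subtype.ext_iff.1 this⟩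
    rw [h1, mem_bot] at h2
    have h3 : d = 1 := Subtype.ext h2
    rw [h3, orderOf_one] at hd
    exact hr.one_lt.ne hd
  · intro a ha
    rw [← h1] at ha
    exact ha.2

/-- `M` irreducible on `N` with a normal `r`-subgroup `R` without fixed points on `N`: `N` is elementary abelian. -/
theorem reg_core_sub [Finite G] {M N R : Subgroup G} (hMN : ∀ m ∈ M, ∀ n ∈ N, m * n * m⁻¹ ∈ N) (hRM : R ≤ M)
    (hRn : ∀ m ∈ M, ∀ ρ ∈ R, m * ρ * m⁻¹ ∈ R) {r : ℕ} (hr : r.Prime) (hRp : IsPGroup r R)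
    (hfix : ∀ n ∈ N, (∀ ρ ∈ R, ρ * n = n * ρ) → n = 1)
    (hirr : ∀ L : Subgroup G, L ≤ N → (∀ m ∈ M, ∀ l ∈ L, m * l * m⁻¹ ∈ L) → L = ⊥ ∨ L = N) :
    ∀ a ∈ N, ∀ b ∈ N, a * b = b * a := by
  have hle : M ≤ Subgroup.normalizer (N : Set G) := by
    intro m hm
    rw [Subgroup.mem_normalizer_iff]
    intro n
    constructor
    · exact hMN m hm n
    · intro hn
      have := hMN m⁻¹ (inv_mem hm) _ hn
      have e : m⁻¹ * (m * n * m⁻¹) * m⁻¹⁻¹ = n := by group
      rwa [e] at this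
  let φ : M →* MulAut N := (N.normalizerMonoidHom).comp (inclusion hle)
  have hφ : ∀ (m : M) (n : N), ((φ m n : N) : G) = m * n * (m : G)⁻¹ := fun m n => rfl
  have hc := reg_core φ.range ((R.subgroupOf M).map φ) hr (by
    rintro _ ⟨m, rfl⟩ _ ⟨ρ, hρ, rfl⟩
    refine ⟨m * ρ * m⁻¹, hRn m m.2 _ hρ, ?_⟩
    rw [map_mul, map_mul, map_inv]) (by
    apply IsPGroup.map
    exact hRp.of_equiv (Subgroup.subgroupOfEquivOfLe hRM).symm) (by
    intro n hn
    apply Subtype.ext
    apply hfix n n.2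
    intro ρ hρ
    have h1 := hn (φ ⟨ρ, hRM hρ⟩) ⟨⟨ρ, hRM hρ⟩, hρ, rfl⟩
    have h2 := Subtype.ext_iff.1 h1
    rw [hφ] at h2
    exact mul_inv_eq_iff_eq_mul.1 h2) (by
    intro L hL
    rcases hirr (L.map N.subtype) (by rintro _ ⟨l, _, rfl⟩; exact l.2) (by
      rintro m hm _ ⟨l, hl, rfl⟩
      exact ⟨_, hL _ ⟨⟨m, hm⟩, rfl⟩ l hl, rfl⟩) with h1 | h1
    · left
      rwa [Subgroup.map_eq_bot_iff_of_injective _ N.subtype_injective] at h1
    · right
      rw [Subgroup.eq_top_iff']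
      intro x
      have h2 : (x : G) ∈ L.map N.subtype := by rw [h1]; exact x.2
      obtain ⟨y, hy, e⟩ := h2
      have : y = x := Subtype.ext e
      rwa [← this])
  exact fun a ha b hb => Subtype.ext_iff.1 (hc ⟨a, ha⟩ ⟨b, hb⟩)

namespace EP

variable {H : Subgroup G} (h : EP H)

include h

/-! ### Abelian normal subgroups of `H` -/

section ab

variable [Finite G] {X : Subgroup G} (hX : X ≤ H) (hXn : ∀ g ∈ H, ∀ k ∈ X, g * k * g⁻¹ ∈ X) (hne : X ≠ ⊥)
  (hab : ∀ a ∈ X, ∀ b ∈ X, a * b = b * a)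

include hX hXn hne hab

/-- **(F5)** an abelian normal subgroup is semiregular outside -/
theorem ab_inf {x : G} (hx : x ∉ H) : X ⊓ cj x H = ⊥ := h.comm_inf hX hXn hX hXn hne hab hx

theorem ab_card {x : G} (hx : x ∉ H) : Nat.card X * Nat.card (H ⊓ cj x H : Subgroup G) = Nat.card H :=
  h.card_of_inf hX hXn hne hx (h.ab_inf hX hXn hne hab hx)

omit [Finite G] hX hXn hne hab in
theorem exists_notMem : ∃ x, x ∉ H := by
  by_contra hcon
  push Not at hcon
  exact h.max.1 ((Subgroup.eq_top_iff' H).2 hcon)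

/-- a nontrivial `H`-normal subgroup inside is everything -/
theorem ab_min {Y : Subgroup G} (hYX : Y ≤ X) (hYn : ∀ g ∈ H, ∀ k ∈ Y, g * k * g⁻¹ ∈ Y) (hYne : Y ≠ ⊥) : Y = X := by
  obtain ⟨x, hx⟩ := h.exists_notMem
  have h1 := h.ab_card hX hXn hne hab hx
  have h2 := h.ab_card (hYX.trans hX) hYn hYne (fun a ha b hb => hab a (hYX ha) b (hYX hb)) hx
  have h3 := Nat.eq_of_mul_eq_mul_right Nat.card_pos (h1.trans h2.symm)
  exact Subgroup.eq_of_le_of_card_ge hYX h3.le

theorem ab_elem : ∃ r : ℕ, r.Prime ∧ ∀ a ∈ X, a ^ r = 1 := by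
  apply elem_of_irr hXn _ hne hab
  intro L hL hLn
  by_cases h1 : L = ⊥
  · exact Or.inl h1
  · exact Or.inr (h.ab_min hX hXn hne hab hL hLn h1)

/-- `C_H(X) = X` -/
theorem ab_cent {c : G} (hc : c ∈ H) (hcX : ∀ a ∈ X, c * a = a * c) : c ∈ X := by
  obtain ⟨x, hx⟩ := h.exists_notMem
  let Y : Subgroup G :=
    { carrier := {c | c ∈ H ∧ ∀ a ∈ X, c * a = a * c}
      one_mem' := ⟨one_mem _, fun a _ => by rw [one_mul, mul_one]⟩
      mul_mem' := by
        rintro c d ⟨h1, h2⟩ ⟨h3, h4⟩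
        exact ⟨mul_mem h1 h3, fun a ha => by rw [mul_assoc, h4 a ha, ← mul_assoc, h2 a ha, mul_assoc]⟩
      inv_mem' := by
        rintro c ⟨h1, h2⟩
        exact ⟨inv_mem h1, fun a ha => by
          rw [inv_mul_eq_iff_eq_mul, ← mul_assoc, h2 a ha, mul_assoc, mul_inv_cancel, mul_one]⟩ }
  have hXY : X ≤ Y := fun a ha => ⟨hX ha, fun b hb => hab a ha b hb⟩
  have hYH : Y ≤ H := fun c hc => hc.1
  have hYn : ∀ g ∈ H, ∀ k ∈ Y, g * k * g⁻¹ ∈ Y := by
    rintro g hg k ⟨h1, h2⟩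
    refine ⟨H.mul_mem (H.mul_mem hg h1) (H.inv_mem hg), fun a ha => ?_⟩
    have h3 := h2 _ (hXn g⁻¹ (inv_mem hg) a ha)
    rw [inv_inv] at h3
    calc g * k * g⁻¹ * a = g * (k * (g⁻¹ * a * g)) * g⁻¹ := by group
      _ = g * (g⁻¹ * a * g * k) * g⁻¹ := by rw [h3]
      _ = a * (g * k * g⁻¹) := by group
  have hYne : Y ≠ ⊥ := fun e => hne (le_bot_iff.1 (e ▸ hXY))
  have h1 := h.card_comm hX hXn hne hYH hYn hYne (fun a ha b hb => (hb.2 a ha).symm) h.max.1
  have h2 : X = Y := Subgroup.eq_of_le_of_card_ge hXY h1.ge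
  rw [h2]
  exact ⟨hc, hcX⟩

/-- `|G : H| = 1` modulo `|X|` -/
theorem ab_index : H.index ≡ 1 [MOD Nat.card X] := by
  classical
  have hst : ∀ x : G, stabilizer G (x : G ⧸ H) = cj x H := by
    intro x
    have h1 : (x : G ⧸ H) = x • ((1 : G) : G ⧸ H) := by
      rw [MulAction.Quotient.smul_coe, smul_eq_mul, mul_one]
    rw [h1, stab_smul, MulAction.stabilizer_quotient]
  have hfree : ∀ (x : G), x ∉ H → ∀ k : X, k • (x : G ⧸ H) = x → k = 1 := by
    intro x hx k hk
    have h1 : (k : G) ∈ X ⊓ cj x H := by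
      refine ⟨k.2, ?_⟩
      rw [← hst]
      exact hk
    rw [h.ab_inf hX hXn hne hab hx, mem_bot] at h1
    exact Subtype.ext h1
  -- the set of the other points
  let Z : SubMulAction X (G ⧸ H) :=
    { carrier := {p | p ≠ ((1 : G) : G ⧸ H)}
      smul_mem' := by
        intro k p hp e
        apply hp
        have h1 : k⁻¹ • (k • p) = k⁻¹ • ((1 : G) : G ⧸ H) := by rw [e]
        rw [inv_smul_smul] at h1
        rw [h1]
        have h2 : ((k⁻¹ : X) : G) ∈ stabilizer G ((1 : G) : G ⧸ H) := by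
          rw [MulAction.stabilizer_quotient]
          exact hX (k⁻¹).2
        exact h2 }
  have hZfree : ∀ (k : X) (z : Z), k • z = z → k = 1 := by
    rintro k ⟨p, hp⟩ e
    induction p using QuotientGroup.induction_on with
    | H x =>
      apply hfree x _ k (Subtype.ext_iff.1 e)
      intro hx
      apply hp
      rw [eq_comm, QuotientGroup.eq, inv_one, one_mul]
      exact hx
  have h1 : Nat.card X ∣ Nat.card Z := by
    have e1 : Nat.card Z = Nat.card (Quotient (orbitRel X Z)) * Nat.card X := by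
      rw [← Nat.card_prod]
      apply Nat.card_congr
      refine (selfEquivSigmaOrbits X Z).trans ?_
      refine (Equiv.sigmaCongrRight fun ω => ?_).trans (Equiv.sigmaEquivProd _ _)
      refine (orbitEquivQuotientStabilizer X ω.out).trans ?_
      have hb : stabilizer X ω.out = ⊥ := by
        rw [Subgroup.eq_bot_iff_forall]
        intro k hk
        exact hZfree k _ hk
      rw [hb]
      exact QuotientGroup.quotientBot.toEquiv
    rw [e1]
    exact dvd_mul_left _ _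
  have h2 : H.index = Nat.card Z + 1 := by
    have e1 : H.index = Nat.card (G ⧸ H) := rfl
    rw [e1]
    have e2 : Nat.card Z = Nat.card {p : G ⧸ H // p ≠ ((1 : G) : G ⧸ H)} := rfl
    rw [e2]
    have := Fintype.ofFinite (G ⧸ H)
    rw [Nat.card_eq_fintype_card, Nat.card_eq_fintype_card, Fintype.card_subtype_compl, Fintype.card_subtype_eq]
    have : 0 < Fintype.card (G ⧸ H) := Fintype.card_pos_iff.2 ⟨((1 : G) : G ⧸ H)⟩
    omega
  rw [h2]
  have h3 : Nat.card Z ≡ 0 [MOD Nat.card X] := (Nat.modEq_zero_iff_dvd).2 h1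
  exact h3.add_right 1

end ab

/-- a nilpotent normal subgroup of `H` is abelian -/
theorem nilp_ab [Finite G] {X : Subgroup G} (hX : X ≤ H) (hXn : ∀ g ∈ H, ∀ k ∈ X, g * k * g⁻¹ ∈ X)
    (hnil : Group.IsNilpotent X) : ∀ a ∈ X, ∀ b ∈ X, a * b = b * a := by
  by_cases hne : X = ⊥
  · intro a ha b hb
    rw [hne, mem_bot] at ha hb
    rw [ha, hb]
  let Y : Subgroup G := (center X).map X.subtype
  have hYX : Y ≤ X := by
    rintro _ ⟨y, _, rfl⟩
    exact y.2
  have hYc : ∀ a ∈ X, ∀ b ∈ Y, a * b = b * a := by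
    rintro a ha _ ⟨b, hb, rfl⟩
    exact Subtype.ext_iff.1 (mem_center_iff.1 hb ⟨a, ha⟩)
  have hYc' : ∀ b ∈ X, (∀ a ∈ X, a * b = b * a) → b ∈ Y := by
    intro b hb hc
    exact ⟨⟨b, hb⟩, mem_center_iff.2 fun a => Subtype.ext (hc a a.2), rfl⟩
  have hYn : ∀ g ∈ H, ∀ k ∈ Y, g * k * g⁻¹ ∈ Y := by
    intro g hg k hk
    apply hYc' _ (hXn g hg k (hYX hk))
    intro a ha
    have h3 := hYc _ (hXn g⁻¹ (inv_mem hg) a ha) k hk
    rw [inv_inv] at h3
    calc a * (g * k * g⁻¹) = g * (g⁻¹ * a * g * k) * g⁻¹ := by group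
      _ = g * (k * (g⁻¹ * a * g)) * g⁻¹ := by rw [h3]
      _ = g * k * g⁻¹ * a := by group
  have hYne : Y ≠ ⊥ := by
    intro e
    rw [Subgroup.map_eq_bot_iff_of_injective _ X.subtype_injective] at e
    have hnt : Nontrivial X := (Subgroup.nontrivial_iff_ne_bot X).2 hne
    exact Group.IsNilpotent.center_ne_bot (G := X) e
  have h1 := h.card_comm hX hXn hne (hYX.trans hX) hYn hYne hYc h.max.1
  have h2 : Y = X := Subgroup.eq_of_le_of_card_ge hYX h1.le
  intro a ha b hb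
  rw [← h2] at hb
  exact hYc a ha b hb

section T

variable {T : Subgroup G} [hTn : T.Normal]

/-- `C_H(A) = 1` -/
theorem cent_A [Finite G] {x : G} (hx : x ∉ H) (hM : H ⊓ cj x H ⊓ T ≠ ⊥) {c : G} (hc : c ∈ H)
    (hcA : ∀ a ∈ H ⊓ T, c * a = a * c) : c = 1 := by
  let Y : Subgroup G :=
    { carrier := {c | c ∈ H ∧ ∀ a ∈ H ⊓ T, c * a = a * c}
      one_mem' := ⟨one_mem _, fun a _ => by rw [one_mul, mul_one]⟩
      mul_mem' := by
        rintro c d ⟨h1, h2⟩ ⟨h3, h4⟩
        exact ⟨mul_mem h1 h3, fun a ha => by rw [mul_assoc, h4 a ha, ← mul_assoc, h2 a ha, mul_assoc]⟩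
      inv_mem' := by
        rintro c ⟨h1, h2⟩
        exact ⟨inv_mem h1, fun a ha => by
          rw [inv_mul_eq_iff_eq_mul, ← mul_assoc, h2 a ha, mul_assoc, mul_inv_cancel, mul_one]⟩ }
  have hAn : ∀ g ∈ H, ∀ k ∈ H ⊓ T, g * k * g⁻¹ ∈ H ⊓ T := fun g hg k hk =>
    ⟨H.mul_mem (H.mul_mem hg (mem_inf.1 hk).1) (H.inv_mem hg), hTn.conj_mem k (mem_inf.1 hk).2 g⟩
  have hYH : Y ≤ H := fun c hc => hc.1
  have hYn : ∀ g ∈ H, ∀ k ∈ Y, g * k * g⁻¹ ∈ Y := by
    rintro g hg k ⟨h1, h2⟩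
    refine ⟨H.mul_mem (H.mul_mem hg h1) (H.inv_mem hg), fun a ha => ?_⟩
    have h3 := h2 _ (hAn g⁻¹ (inv_mem hg) a ha)
    rw [inv_inv] at h3
    calc g * k * g⁻¹ * a = g * (k * (g⁻¹ * a * g)) * g⁻¹ := by group
      _ = g * (g⁻¹ * a * g * k) * g⁻¹ := by rw [h3]
      _ = a * (g * k * g⁻¹) := by group
  by_contra hne
  have hYne : Y ≠ ⊥ := by
    intro e
    have h1 : c ∈ Y := ⟨hc, hcA⟩
    rw [e, mem_bot] at h1
    exact hne h1
  have h1 := h.comm_inf (X := H ⊓ T) inf_le_left hAn hYH hYn hYne (fun a ha b hb => (hb.2 a ha).symm) hx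
  apply hM
  rw [eq_bot_iff, ← h1]
  exact le_inf (le_inf (inf_le_left.trans inf_le_left) inf_le_right) (inf_le_left.trans inf_le_right)

/-- **(F3)** for characteristic subgroups of `M0` -/
theorem norm_char [Finite G] {x : G} (hx : x ∉ H) (K : Subgroup (H ⊓ cj x H ⊓ T : Subgroup G)) [hK : K.Characteristic]
    (hne : K ≠ ⊥) {g : G} (hg : g ∈ H) (hgK : ∀ k ∈ K.map (Subgroup.subtype _), g * k * g⁻¹ ∈ K.map (Subgroup.subtype _)) :
    g ∈ cj x H := by
  refine h.norm hx (X := K.map (Subgroup.subtype _)) ?_ ?_ ?_ hg hgK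
  · rintro _ ⟨y, _, rfl⟩
    exact (mem_inf.1 y.2).1
  · intro m hm
    have hle : H ⊓ cj x H ≤ Subgroup.normalizer ((H ⊓ cj x H ⊓ T : Subgroup G) : Set G) := by
      intro m hm
      rw [Subgroup.mem_normalizer_iff]
      intro n
      constructor
      · intro hn
        exact ⟨(H ⊓ cj x H).mul_mem ((H ⊓ cj x H).mul_mem hm (mem_inf.1 hn).1) ((H ⊓ cj x H).inv_mem hm),
          hTn.conj_mem n (mem_inf.1 hn).2 m⟩
      · intro hn
        have h1 : m⁻¹ * (m * n * m⁻¹) * m⁻¹⁻¹ ∈ H ⊓ cj x H ⊓ T :=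
          ⟨(H ⊓ cj x H).mul_mem ((H ⊓ cj x H).mul_mem ((H ⊓ cj x H).inv_mem hm) (mem_inf.1 hn).1)
            ((H ⊓ cj x H).inv_mem ((H ⊓ cj x H).inv_mem hm)), hTn.conj_mem _ (mem_inf.1 hn).2 m⁻¹⟩
        have e : m⁻¹ * (m * n * m⁻¹) * m⁻¹⁻¹ = n := by group
        rwa [e] at h1
    let σ := (H ⊓ cj x H ⊓ T : Subgroup G).normalizerMonoidHom ⟨m, hle hm⟩
    have hσ : K.map σ.toMonoidHom = K := Subgroup.characteristic_iff_map_eq.1 hK σ
    rintro _ ⟨k, hk, rfl⟩
    have h1 : σ k ∈ K := by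
      rw [← hσ]
      exact ⟨k, hk, rfl⟩
    exact ⟨σ k, h1, rfl⟩
  · intro e
    rw [Subgroup.map_eq_bot_iff_of_injective _ (Subgroup.subtype_injective _)] at e
    exact hne e

omit h in
/-- normaliser growth -/
theorem _root_.Cfsg.Agent.H284.exists_norm_lt {r : ℕ} (hr : r.Prime) {R Q : Subgroup G} [Finite G] (hQ : IsPGroup r Q)
    (hRQ : R ≤ Q) (hne : Q ≠ R) : ∃ y ∈ Q, y ∉ R ∧ ∀ k ∈ R, y * k * y⁻¹ ∈ R := by
  have := Fact.mk hr
  have h1 : R.subgroupOf Q < ⊤ := by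
    rw [lt_top_iff_ne_top]
    intro e
    rw [Subgroup.subgroupOf_eq_top] at e
    exact hne (le_antisymm e hRQ)
  have hnil : Group.IsNilpotent Q := hQ.isNilpotent
  have h2 := Group.normalizerCondition_of_isNilpotent (G := Q) _ h1
  obtain ⟨y, hy, hyn⟩ := SetLike.exists_of_lt h2
  refine ⟨y, y.2, hyn, ?_⟩
  intro k hk
  have h4 : (⟨k, hRQ hk⟩ : Q) ∈ R.subgroupOf Q := hk
  exact (Subgroup.mem_normalizer_iff.1 hy _).1 h4

/-- A nontrivial normal subgroup `R` of `M` containing all `r`-elements of `M0` is a Sylow subgroup of `A`. -/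
theorem sylow_M0 [Finite G] {x : G} (hx : x ∉ H) {r : ℕ} (hr : r.Prime) {R : Subgroup G} (hR : R ≤ H ⊓ cj x H)
    (hRn : ∀ m ∈ H ⊓ cj x H, ∀ k ∈ R, m * k * m⁻¹ ∈ R) (hne : R ≠ ⊥)
    (hRs : ∀ y ∈ H ⊓ cj x H ⊓ T, (∃ k : ℕ, y ^ (r ^ k) = 1) → y ∈ R) {Q : Subgroup G} (hQ : Q ≤ H ⊓ T)
    (hQp : IsPGroup r Q) (hRQ : R ≤ Q) : Q = R := by
  by_contra hcon
  obtain ⟨y, hyQ, hyR, hyn⟩ := exists_norm_lt hr hQp hRQ hcon
  apply hyR
  have h1 := h.norm hx hR hRn hne (hQ hyQ).1 hyn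
  apply hRs y ⟨⟨(hQ hyQ).1, h1⟩, (hQ hyQ).2⟩
  obtain ⟨k, hk⟩ := hQp ⟨y, hyQ⟩
  exact ⟨k, Subtype.ext_iff.1 hk⟩

/-- **(F3c)** If `M0 = A ∩ A^x` is abelian, then `H` has a nontrivial abelian normal subgroup. -/
theorem abelian_M0 [Finite G] {x : G} (hx : x ∉ H) (hA : H ⊓ T ≠ ⊥)
    (hab : ∀ a ∈ H ⊓ cj x H ⊓ T, ∀ b ∈ H ⊓ cj x H ⊓ T, a * b = b * a) (hM0 : H ⊓ cj x H ⊓ T ≠ ⊥) :
    ∃ K : Subgroup G, K ≤ H ⊓ T ∧ (∀ g ∈ H, ∀ k ∈ K, g * k * g⁻¹ ∈ K) ∧ K ≠ ⊥ ∧ ∀ a ∈ K, ∀ b ∈ K, a * b = b * a := by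
  classical
  have hAn : ∀ g ∈ H, ∀ k ∈ H ⊓ T, g * k * g⁻¹ ∈ H ⊓ T := fun g hg k hk =>
    ⟨H.mul_mem (H.mul_mem hg (mem_inf.1 hk).1) (H.inv_mem hg), hTn.conj_mem k (mem_inf.1 hk).2 g⟩
  set M0 : Subgroup G := H ⊓ cj x H ⊓ T with hM0def
  have hM0A : M0 ≤ H ⊓ T := le_inf (inf_le_left.trans inf_le_left) inf_le_right
  have hM0n : ∀ m ∈ H ⊓ cj x H, ∀ k ∈ M0, m * k * m⁻¹ ∈ M0 := fun m hm k hk =>
    ⟨(H ⊓ cj x H).mul_mem ((H ⊓ cj x H).mul_mem hm (mem_inf.1 hk).1) ((H ⊓ cj x H).inv_mem hm),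
      hTn.conj_mem k (mem_inf.1 hk).2 m⟩
  -- the normal complements
  have hcompl : ∀ r : ℕ, r.Prime → r ∣ Nat.card M0 → ∃ Kr : Subgroup (H ⊓ T : Subgroup G),
      (∀ a : (H ⊓ T : Subgroup G), a ∈ Kr ↔ ¬ r ∣ orderOf a) ∧
      ∀ a b : (H ⊓ T : Subgroup G), a * b * a⁻¹ * b⁻¹ ∈ Kr := by
    intro r hr hrd
    have := Fact.mk hr
    let R : Subgroup G :=
      { carrier := {x | x ∈ M0 ∧ ∃ k : ℕ, x ^ (r ^ k) = 1}
        one_mem' := ⟨one_mem _, 0, one_pow _⟩
        mul_mem' := by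
          rintro x y ⟨hx, k, hx'⟩ ⟨hy, l, hy'⟩
          refine ⟨mul_mem hx hy, k + l, ?_⟩
          rw [(show Commute x y from hab x hx y hy).mul_pow, pow_add, pow_mul, hx', one_pow, one_mul,
            mul_comm (r ^ k), pow_mul, hy', one_pow]
        inv_mem' := by
          rintro x ⟨hx, k, hx'⟩
          exact ⟨inv_mem hx, k, by rw [inv_pow, hx', inv_one]⟩ }
    have hRM0 : R ≤ M0 := fun x hx => hx.1
    have hRp : IsPGroup r R := by
      rintro ⟨y, hy, k, hk⟩
      exact ⟨k, Subtype.ext hk⟩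
    have hRn : ∀ m ∈ H ⊓ cj x H, ∀ k ∈ R, m * k * m⁻¹ ∈ R := by
      rintro m hm k ⟨hk, l, hl⟩
      exact ⟨hM0n m hm k hk, l, by rw [conj_pow, hl, mul_one, mul_inv_cancel]⟩
    have hRne : R ≠ ⊥ := by
      intro e
      obtain ⟨d, hd⟩ := exists_prime_orderOf_dvd_card' r hrd
      have h2 : (d : G) ∈ R := ⟨d.2, 1, by
        rw [pow_one]
        have := pow_orderOf_eq_one d
        rw [hd] at this
        exact Subtype.ext_iff.1 this⟩
      rw [e, mem_bot] at h2
      have h3 : d = 1 := Subtype.ext h2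
      rw [h3, orderOf_one] at hd
      exact hr.one_lt.ne hd
    have hRA : IsPGroup r (R.subgroupOf (H ⊓ T)) :=
      hRp.of_equiv (Subgroup.subgroupOfEquivOfLe (hRM0.trans hM0A)).symm
    obtain ⟨P, hP⟩ := hRA.exists_le_sylow
    have hPR : (P : Subgroup (H ⊓ T : Subgroup G)).map (Subgroup.subtype _) = R := by
      apply h.sylow_M0 hx hr (hRM0.trans inf_le_left) hRn hRne (fun y hy hy' => ⟨hy, hy'⟩)
      · rintro _ ⟨y, _, rfl⟩
        exact y.2
      · exact P.isPGroup'.map _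
      · intro y hy
        exact ⟨⟨y, hM0A (hRM0 hy)⟩, hP hy, rfl⟩
    have hPmem : ∀ y : (H ⊓ T : Subgroup G), y ∈ (P : Subgroup (H ⊓ T : Subgroup G)) ↔ (y : G) ∈ R := by
      intro y
      rw [← hPR]
      constructor
      · intro hy
        exact ⟨y, hy, rfl⟩
      · rintro ⟨z, hz, e⟩
        have : z = y := Subtype.ext e
        rwa [← this]
    have hPnc : ∀ y : (H ⊓ T : Subgroup G), y ∈ Subgroup.normalizer ((P : Subgroup (H ⊓ T : Subgroup G)) : Set _) →
        (y : G) ∈ M0 := by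
      intro y hy
      rw [Subgroup.mem_normalizer_iff] at hy
      refine ⟨⟨(mem_inf.1 y.2).1, ?_⟩, (mem_inf.1 y.2).2⟩
      apply h.norm hx (hRM0.trans inf_le_left) hRn hRne (mem_inf.1 y.2).1
      intro k hk
      have h4 := (hy ⟨k, hM0A (hRM0 hk)⟩).1 ((hPmem _).2 hk)
      exact (hPmem _).1 h4
    have hPc : Subgroup.normalizer ((P : Subgroup (H ⊓ T : Subgroup G)) : Set (H ⊓ T : Subgroup G)) ≤
        Subgroup.centralizer ((P : Subgroup (H ⊓ T : Subgroup G)) : Set (H ⊓ T : Subgroup G)) := by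
      intro y hy
      rw [Subgroup.mem_centralizer_iff]
      intro z hz
      apply Subtype.ext
      exact hab _ (hRM0 ((hPmem z).1 hz)) _ (hPnc y hy)
    refine ⟨(MonoidHom.transferSylow P hPc).ker, ?_, ?_⟩
    · intro a
      have hnd := MonoidHom.not_dvd_card_ker_transferSylow P hPc
      constructor
      · intro ha hra
        apply hnd
        refine hra.trans ?_
        have h5 : orderOf a = orderOf (⟨a, ha⟩ : (MonoidHom.transferSylow P hPc).ker) :=
          Subgroup.orderOf_coe (⟨a, ha⟩ : (MonoidHom.transferSylow P hPc).ker)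
        rw [h5]
        exact _root_.orderOf_dvd_natCard _
      · intro hra
        rw [MonoidHom.mem_ker]
        obtain ⟨k, hk⟩ := P.isPGroup' (MonoidHom.transferSylow P hPc a)
        have h5 : orderOf (MonoidHom.transferSylow P hPc a) ∣ r ^ k := orderOf_dvd_of_pow_eq_one hk
        have h6 : orderOf (MonoidHom.transferSylow P hPc a) ∣ orderOf a := orderOf_map_dvd _ _
        have h7 : Nat.Coprime (orderOf a) (r ^ k) := by
          apply Nat.Coprime.pow_right
          rw [Nat.coprime_comm]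
          exact (Nat.Prime.coprime_iff_not_dvd hr).2 hra
        have h8 : orderOf (MonoidHom.transferSylow P hPc a) ∣ 1 := by
          rw [← h7]
          exact Nat.dvd_gcd h6 h5
        exact orderOf_eq_one_iff.1 (Nat.dvd_one.1 h8)
    · intro a b
      rw [MonoidHom.mem_ker, map_mul, map_mul, map_mul, map_inv, map_inv]
      have hPab : ∀ u v : P, u * v = v * u := by
        intro u v
        apply Subtype.ext
        apply Subtype.ext
        exact hab _ (hRM0 ((hPmem u).1 u.2)) _ (hRM0 ((hPmem v).1 v.2))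
      rw [mul_inv_eq_one, mul_inv_eq_iff_eq_mul]
      exact hPab _ _
  let K : Subgroup G :=
    { carrier := {a | a ∈ H ⊓ T ∧ ∀ r : ℕ, r.Prime → r ∣ Nat.card M0 → ¬ r ∣ orderOf a}
      one_mem' := ⟨one_mem _, fun r hr _ h1 => by
        rw [orderOf_one] at h1
        exact hr.one_lt.ne' (Nat.dvd_one.1 h1)⟩
      mul_mem' := by
        rintro a b ⟨ha, ha'⟩ ⟨hb, hb'⟩
        refine ⟨mul_mem ha hb, fun r hr hrd => ?_⟩
        obtain ⟨Kr, hKr, -⟩ := hcompl r hr hrd
        have h1 := (hKr ⟨a, ha⟩).2 (by rw [← Subgroup.orderOf_coe]; exact ha' r hr hrd)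
        have h2 := (hKr ⟨b, hb⟩).2 (by rw [← Subgroup.orderOf_coe]; exact hb' r hr hrd)
        have h3 := (hKr _).1 (mul_mem h1 h2)
        rw [← Subgroup.orderOf_coe] at h3
        exact h3
      inv_mem' := by
        rintro a ⟨ha, ha'⟩
        exact ⟨inv_mem ha, fun r hr hrd => by rw [orderOf_inv]; exact ha' r hr hrd⟩ }
  have hKA : K ≤ H ⊓ T := fun a ha => ha.1
  have hKn : ∀ g ∈ H, ∀ k ∈ K, g * k * g⁻¹ ∈ K := by
    rintro g hg k ⟨hk, hk'⟩
    refine ⟨hAn g hg k hk, fun r hr hrd => ?_⟩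
    have e : orderOf (g * k * g⁻¹) = orderOf k := by
      have := orderOf_injective (MulAut.conj g).toMonoidHom (MulAut.conj g).injective k
      exact this
    rw [e]
    exact hk' r hr hrd
  have hKM0 : ∀ a ∈ K, a ∈ M0 → a = 1 := by
    rintro a ⟨_, ha'⟩ haM
    by_contra hne
    have h1 : orderOf a ≠ 1 := fun e => hne (orderOf_eq_one_iff.1 e)
    obtain ⟨r, hr, hrd⟩ := Nat.exists_prime_and_dvd h1
    apply ha' r hr _ hrd
    apply hrd.trans
    have h5 : orderOf a = orderOf (⟨a, haM⟩ : M0) := Subgroup.orderOf_coe (⟨a, haM⟩ : M0)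
    rw [h5]
    exact _root_.orderOf_dvd_natCard _
  by_cases hK : K = ⊥
  · -- `A` is abelian
    refine ⟨H ⊓ T, le_rfl, hAn, hA, ?_⟩
    intro a ha b hb
    have h1 : a * b * a⁻¹ * b⁻¹ ∈ K := by
      refine ⟨?_, fun r hr hrd => ?_⟩
      · exact mul_mem (mul_mem (mul_mem ha hb) (inv_mem ha)) (inv_mem hb)
      · obtain ⟨Kr, hKr, hKc⟩ := hcompl r hr hrd
        have h2 := (hKr _).1 (hKc ⟨a, ha⟩ ⟨b, hb⟩)
        rw [← Subgroup.orderOf_coe] at h2
        exact h2
    rw [hK, mem_bot, mul_inv_eq_one, mul_inv_eq_iff_eq_mul] at h1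
    exact h1
  · refine ⟨K, hKA, hKn, hK, ?_⟩
    have hcard : Nat.card M0 ≠ 1 := fun e => hM0 (Subgroup.card_eq_one.1 e)
    obtain ⟨r, hr, hrd⟩ := Nat.exists_prime_and_dvd hcard
    have := Fact.mk hr
    let R : Subgroup G :=
      { carrier := {x | x ∈ M0 ∧ x ^ r = 1}
        one_mem' := ⟨one_mem _, one_pow _⟩
        mul_mem' := by
          rintro x y ⟨hx, hx'⟩ ⟨hy, hy'⟩
          refine ⟨mul_mem hx hy, ?_⟩
          rw [(show Commute x y from hab x hx y hy).mul_pow, hx', hy', one_mul]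
        inv_mem' := by
          rintro x ⟨hx, hx'⟩
          exact ⟨inv_mem hx, by rw [inv_pow, hx', inv_one]⟩ }
    have hRM0 : R ≤ M0 := fun x hx => hx.1
    have hRp : IsPGroup r R := by
      rintro ⟨y, hy, hy'⟩
      exact ⟨1, Subtype.ext (by rw [pow_one]; exact hy')⟩
    have hRn : ∀ m ∈ H ⊓ cj x H, ∀ k ∈ R, m * k * m⁻¹ ∈ R := by
      rintro m hm k ⟨hk, hl⟩
      exact ⟨hM0n m hm k hk, by rw [conj_pow, hl, mul_one, mul_inv_cancel]⟩
    have hRne : R ≠ ⊥ := by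
      intro e
      obtain ⟨d, hd⟩ := exists_prime_orderOf_dvd_card' r hrd
      have h2 : (d : G) ∈ R := ⟨d.2, by
        have := pow_orderOf_eq_one d
        rw [hd] at this
        exact Subtype.ext_iff.1 this⟩
      rw [e, mem_bot] at h2
      have h3 : d = 1 := Subtype.ext h2
      rw [h3, orderOf_one] at hd
      exact hr.one_lt.ne hd
    refine reg_core_sub (M := H ⊓ cj x H) (N := K) (R := R) (fun m hm => hKn m (mem_inf.1 hm).1)
      (hRM0.trans inf_le_left) hRn hr hRp ?_ ?_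
    · intro n hn hc
      apply hKM0 n hn
      refine ⟨⟨(mem_inf.1 (hKA hn)).1, ?_⟩, (mem_inf.1 (hKA hn)).2⟩
      apply h.norm hx (hRM0.trans inf_le_left) hRn hRne (mem_inf.1 (hKA hn)).1
      intro k hk
      rw [← hc k hk, mul_inv_cancel_right]
      exact hk
    · intro L hL hLn
      rcases h.two x hx ((H ⊓ cj x H) ⊔ L) le_sup_left
        (sup_le inf_le_left (hL.trans (hKA.trans inf_le_left))) with h3 | h3
      · left
        rw [Subgroup.eq_bot_iff_forall]
        intro l hl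
        apply hKM0 l (hL hl)
        exact ⟨h3.le ((le_sup_right : L ≤ _) hl), (mem_inf.1 (hKA (hL hl))).2⟩
      · right
        apply le_antisymm hL
        intro a ha
        obtain ⟨l, hl, m, hm, e⟩ := mem_sup_norm hLn (x := a) (by rw [h3]; exact (mem_inf.1 (hKA ha)).1)
        have h4 : m ∈ K := by
          have h5 : m = l⁻¹ * a := by rw [e, inv_mul_cancel_left]
          rw [h5]
          exact mul_mem (inv_mem (hL hl)) ha
        have h6 : m = 1 := hKM0 m h4 ⟨hm, (mem_inf.1 (hKA h4)).2⟩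
        rw [e, h6, mul_one]
        exact hl

end T

end EP


/-! ### (LS) the linear space of the lines `fix(G_ab)` -/

namespace EPA

variable (h : EPA G Ω)

include h

theorem stab_eq [FaithfulSMul G Ω] {a b c : Ω} (hab : b ≠ a) (hca : c ≠ a)
    (hc : stabilizer G a ⊓ stabilizer G b ≤ stabilizer G c) :
    stabilizer G a ⊓ stabilizer G c = stabilizer G a ⊓ stabilizer G b := by
  rcases h.two a b hab (stabilizer G a ⊓ stabilizer G c) (le_inf inf_le_left hc) inf_le_left with h1 | h1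
  · exact h1
  · exfalso
    exact h.not_le hca.symm (inf_eq_left.1 h1)

/-- two points of the line `fix(G_ab)` determine the line -/
theorem line_eq [FaithfulSMul G Ω] {a b c d : Ω} (hab : b ≠ a) (hcd : c ≠ d)
    (hc : stabilizer G a ⊓ stabilizer G b ≤ stabilizer G c) (hd : stabilizer G a ⊓ stabilizer G b ≤ stabilizer G d) :
    stabilizer G c ⊓ stabilizer G d = stabilizer G a ⊓ stabilizer G b := by
  by_cases hca : c = a
  · subst hca
    exact h.stab_eq hab hcd.symm hd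
  · have h1 := h.stab_eq hab hca hc
    have h2 := h.stab_eq (a := c) (b := a) (c := d) (Ne.symm hca) hcd.symm (by
      rw [inf_comm, h1]; exact hd)
    rw [h2, inf_comm, h1]

/-- the lines through `a` -/
def lines (G : Type*) [Group G] {Ω : Type*} [MulAction G Ω] (a : Ω) : Set (Subgroup G) :=
  {M | ∃ b, b ≠ a ∧ M = stabilizer G a ⊓ stabilizer G b}

theorem ncard_lines [Finite G] (a b : Ω) : (lines G a).ncard = (lines G b).ncard := by
  obtain ⟨g, rfl⟩ := h.exists_smul a b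
  refine Set.ncard_congr (fun M _ => cj g M) ?_ ?_ ?_
  · rintro _ ⟨c, hc, rfl⟩
    refine ⟨g • c, fun e => hc (smul_left_cancel g e), ?_⟩
    rw [cj_inf, stab_smul, stab_smul]
  · intro M N _ _ e
    have : cj g⁻¹ (cj g M) = cj g⁻¹ (cj g N) := congrArg _ e
    rwa [cj_inv_cj, cj_inv_cj] at this
  · rintro _ ⟨c, hc, rfl⟩
    refine ⟨stabilizer G a ⊓ stabilizer G (g⁻¹ • c), ⟨g⁻¹ • c, fun e => hc ?_, rfl⟩, ?_⟩
    · rw [← e, smul_inv_smul]
    · rw [cj_inf, ← stab_smul, ← stab_smul, smul_inv_smul]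

/-- A proper subspace has at most `r` points. -/
theorem ncard_subspace [Finite G] [Finite Ω] [FaithfulSMul G Ω] (a : Ω) {S : Set Ω}
    (hS : ∀ c ∈ S, ∀ d ∈ S, c ≠ d → ∀ e, stabilizer G c ⊓ stabilizer G d ≤ stabilizer G e → e ∈ S) {p : Ω}
    (hp : p ∉ S) : S.ncard ≤ (lines G a).ncard := by
  rw [h.ncard_lines a p]
  refine Set.ncard_le_ncard_of_injOn (fun c => stabilizer G p ⊓ stabilizer G c) ?_ ?_ (Set.toFinite _)
  · intro c hc
    exact ⟨c, fun e => hp (e ▸ hc), rfl⟩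
  · intro c hc d hd e
    by_contra hcd
    apply hp
    apply hS c hc d hd hcd p
    have h1 := h.line_eq (a := p) (b := c) (fun e => hp (e ▸ hc)) hcd inf_le_right
      (by
        have e' : stabilizer G p ⊓ stabilizer G c = stabilizer G p ⊓ stabilizer G d := e
        rw [e']; exact inf_le_right)
    rw [h1]
    exact inf_le_left

/-- the fixed points of a subset -/
theorem ncard_fix [Finite G] [Finite Ω] [FaithfulSMul G Ω] (a : Ω) {M : Set G} (hM : ∃ m ∈ M, m ≠ 1) :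
    {c : Ω | ∀ m ∈ M, m • c = c}.ncard ≤ (lines G a).ncard := by
  obtain ⟨m, hm, hm1⟩ := hM
  obtain ⟨p, hp⟩ : ∃ p : Ω, m • p ≠ p := by
    by_contra hcon
    push Not at hcon
    apply hm1
    apply FaithfulSMul.eq_of_smul_eq_smul (α := Ω)
    intro c
    rw [one_smul]
    exact hcon c
  refine h.ncard_subspace a (p := p) ?_ (fun hp' => hp (hp' m hm))
  intro c hc d hd _ e he m' hm'
  exact he (⟨hc m' hm', hd m' hm'⟩ : m' ∈ stabilizer G c ⊓ stabilizer G d)

/-- `|Ω| ≤ r ^ 2` -/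
theorem card_le_sq [Finite G] [Finite Ω] [FaithfulSMul G Ω] (a : Ω)
    (hne : ∀ b, b ≠ a → stabilizer G a ⊓ stabilizer G b ≠ ⊥) : Nat.card Ω ≤ (lines G a).ncard ^ 2 := by
  classical
  have := Fintype.ofFinite Ω
  have hfin : (lines G a).Finite := Set.toFinite _
  set r := (lines G a).ncard with hr
  have h1 : (Finset.univ.erase a : Finset Ω).card ≤
      ∑ M ∈ hfin.toFinset, ((Finset.univ.filter fun c : Ω => ∀ m ∈ M, m • c = c).erase a).card := by
    refine le_trans (Finset.card_le_card ?_) Finset.card_biUnion_le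
    intro b hb
    rw [Finset.mem_erase] at hb
    rw [Finset.mem_biUnion]
    refine ⟨stabilizer G a ⊓ stabilizer G b, ?_, ?_⟩
    · rw [Set.Finite.mem_toFinset]
      exact ⟨b, hb.1, rfl⟩
    · rw [Finset.mem_erase, Finset.mem_filter]
      exact ⟨hb.1, Finset.mem_univ _, fun m hm => (mem_inf.1 hm).2⟩
  have h2 : ∀ M ∈ hfin.toFinset, ((Finset.univ.filter fun c : Ω => ∀ m ∈ M, m • c = c).erase a).card ≤ r - 1 := by
    intro M hM
    rw [Set.Finite.mem_toFinset] at hM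
    obtain ⟨b, hb, rfl⟩ := hM
    rw [Finset.card_erase_of_mem]
    · apply Nat.sub_le_sub_right
      obtain ⟨m, hm⟩ := (Subgroup.ne_bot_iff_exists_ne_one).1 (hne b hb)
      have h3 := h.ncard_fix a (M := ((stabilizer G a ⊓ stabilizer G b : Subgroup G) : Set G))
        ⟨m, m.2, fun e => hm (Subtype.ext e)⟩
      rw [Set.ncard_eq_toFinset_card'] at h3
      refine le_trans (le_of_eq ?_) h3
      congr 1
      ext c
      simp only [_root_.Subgroup.mem_inf, _root_.MulAction.mem_stabilizer_iff, _root_.and_imp, _root_.Finset.mem_filter, _root_.Finset.mem_univ, _root_.true_and, _root_.Subgroup.coe_inf, _root_.Set.mem_inter_iff, _root_.SetLike.mem_coe, _root_.Set.toFinset_ofPred]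
    · rw [Finset.mem_filter]
      exact ⟨Finset.mem_univ _, fun m hm => (mem_inf.1 hm).1⟩
  have h4 := h1.trans (Finset.sum_le_card_nsmul _ _ _ h2)
  rw [Finset.card_erase_of_mem (Finset.mem_univ a), Finset.card_univ, smul_eq_mul,
    ← Set.ncard_eq_toFinset_card _ hfin, ← hr] at h4
  rw [Nat.card_eq_fintype_card]
  have h6 : r ≠ 0 := by
    intro e
    rw [hr, Set.ncard_eq_zero] at e
    apply (h.max a).1
    rw [Subgroup.eq_top_iff']
    intro g
    by_contra hg
    have : stabilizer G a ⊓ stabilizer G (g • a) ∈ lines G a := ⟨g • a, fun e => hg e, rfl⟩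
    rw [e] at this
    exact this
  obtain ⟨k, hk⟩ := Nat.exists_eq_succ_of_ne_zero h6
  have h7 : 0 < Fintype.card Ω := Fintype.card_pos_iff.2 ⟨a⟩
  rw [hk, Nat.succ_eq_add_one, Nat.add_sub_cancel] at h4
  rw [hk, Nat.succ_eq_add_one]
  have h8 : Fintype.card Ω ≤ (k + 1) * k + 1 := by omega
  linarith only [h8]

end EPA


namespace EP

variable {H : Subgroup G} (h : EP H)

/-! ### (RL) root elements -/

section RL

variable {T : Subgroup G} [hTn : T.Normal]

/-- `z` is free for `H`: no nontrivial element `(m z⁻¹ m⁻¹) z`, `m ∈ H`, is in `H`. -/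
def RLFree (H : Subgroup G) (z : G) : Prop := z ∉ H ∧ ∀ m ∈ H, m * z⁻¹ * m⁻¹ * z ∈ H → m * z⁻¹ * m⁻¹ * z = 1

omit [T.Normal] in
theorem RLFree.mem_iff {z : G} (hz : RLFree H z) {m : G} : m ∈ H ⊓ cj z H ↔ m ∈ H ∧ m * z = z * m := by
  constructor
  · intro hm
    refine ⟨(mem_inf.1 hm).1, ?_⟩
    have h1 : z⁻¹ * m * z ∈ H := mem_cj.1 (mem_inf.1 hm).2
    have h2 : m * z⁻¹ * m⁻¹ * z ∈ H := by
      have e : m * z⁻¹ * m⁻¹ * z = m * (z⁻¹ * m * z)⁻¹ := by group
      rw [e]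
      exact H.mul_mem (mem_inf.1 hm).1 (H.inv_mem h1)
    have h3 := hz.2 m (mem_inf.1 hm).1 h2
    have h4 : z = m * z * m⁻¹ := by
      have e : m * z * m⁻¹ = (m * z⁻¹ * m⁻¹)⁻¹ := by group
      rw [e, eq_comm, inv_eq_iff_mul_eq_one]
      exact h3
    rw [eq_mul_inv_iff_mul_eq] at h4
    exact h4.symm
  · rintro ⟨h1, h2⟩
    refine ⟨h1, mem_cj.2 ?_⟩
    have e : z⁻¹ * m * z = m := by rw [mul_assoc, h2, inv_mul_cancel_left]
    rw [e]
    exact h1

/-- `z`, `z'` are joined: both centralisers in `H` are in a proper subgroup of `H`. -/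
def RLEdge (H : Subgroup G) (z z' : G) : Prop :=
  ∃ S : Subgroup G, S ≤ H ∧ S ≠ H ∧ (∀ m ∈ H, m * z = z * m → m ∈ S) ∧ ∀ m ∈ H, m * z' = z' * m → m ∈ S

include h

omit [T.Normal] in
theorem RLFree.cent_eq {S : Subgroup G} {z : G} (hz : RLFree H z) (hSH : S ≤ H) (hS : S ≠ H)
    (hzS : ∀ m ∈ H, m * z = z * m → m ∈ S) : S = H ⊓ cj z H := by
  rcases h.two z hz.1 S (fun m hm => hzS m (hz.mem_iff.1 hm).1 (hz.mem_iff.1 hm).2) hSH with h1 | h1
  · exact h1
  · exact absurd h1 hS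

omit [T.Normal] in
theorem RLEdge.eq {z z' : G} (hz : RLFree H z) (hz' : RLFree H z') (he : RLEdge H z z') :
    H ⊓ cj z H = H ⊓ cj z' H := by
  obtain ⟨S, h1, h2, h3, h4⟩ := he
  rw [← RLFree.cent_eq h hz h1 h2 h3, ← RLFree.cent_eq h hz' h1 h2 h4]

omit [T.Normal] in
/-- edge: every element of `H` which commutes with `z` commutes with `z'` -/
theorem RLEdge.of_comm [Finite G] {z z' : G} (hz' : RLFree H z') (hc : ∀ m ∈ H, m * z = z * m → m * z' = z' * m) :
    RLEdge H z z' := by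
  refine ⟨H ⊓ cj z' H, inf_le_left, fun e => h.not_le_cj hz'.1 (inf_eq_left.1 e), ?_, ?_⟩
  · intro m hm hmz
    exact hz'.mem_iff.2 ⟨hm, hc m hm hmz⟩
  · intro m hm hmz
    exact hz'.mem_iff.2 ⟨hm, hmz⟩

end RL

/-! ### (CL) closures -/

/-- **(CL)** if all `M ≥ Y` contain `N_A(Y)`, then `N_A(Y)` is normal in `N_G(Y)`; here for any set `C` in place of
`N_A(Y)`. -/
theorem CL {Y : Subgroup G} {C : Set G} (hCH : ∀ c ∈ C, c ∈ H) (hYH : Y ≤ H)
    (hyp : ∀ x ∉ H, Y ≤ cj x H → ∀ c ∈ C, c ∈ cj x H) {t : G} (ht : ∀ y ∈ Y, t * y * t⁻¹ ∈ Y) {c : G} (hc : c ∈ C) :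
    t * c * t⁻¹ ∈ H := by
  by_cases htH : t ∈ H
  · exact H.mul_mem (H.mul_mem htH (hCH c hc)) (H.inv_mem htH)
  · have h1 : t⁻¹ ∉ H := fun e => htH (by have := H.inv_mem e; rwa [inv_inv] at this)
    have h2 := hyp t⁻¹ h1 (by
      intro y hy
      rw [mem_cj, inv_inv]
      exact hYH (ht y hy)) c hc
    rw [mem_cj, inv_inv] at h2
    exact h2

/-- the closure of `Y`: the intersection of all conjugates of `H` containing `Y` -/
def cl (H Y : Subgroup G) : Subgroup G := ⨅ x : {x : G // Y ≤ cj x H}, cj x.1 H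

theorem mem_cl {Y : Subgroup G} {g : G} : g ∈ cl H Y ↔ ∀ x : G, Y ≤ cj x H → g ∈ cj x H := by
  rw [cl, mem_iInf]
  exact ⟨fun h x hx => h ⟨x, hx⟩, fun h x => h x.1 x.2⟩

theorem cl_le {Y : Subgroup G} (hY : Y ≤ H) : cl H Y ≤ H := by
  intro g hg
  have := mem_cl.1 hg 1 (by rw [cj_one]; exact hY)
  rwa [cj_one] at this

/-! ### (LS) group form -/

/-- the set of the two point stabilisers `H ∩ H^x` -/
def twoSet (H : Subgroup G) : Set (Subgroup G) := {M | ∃ x, x ∉ H ∧ M = H ⊓ cj x H}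

theorem twoSet_eq (H : Subgroup G) : EPA.lines G ((1 : G) : G ⧸ H) = twoSet H := by
  have hst : ∀ x : G, stabilizer G (x : G ⧸ H) = cj x H := by
    intro x
    have h1 : (x : G ⧸ H) = x • ((1 : G) : G ⧸ H) := by
      rw [MulAction.Quotient.smul_coe, smul_eq_mul, mul_one]
    rw [h1, stab_smul, MulAction.stabilizer_quotient]
  ext M
  constructor
  · rintro ⟨b, hb, rfl⟩
    induction b using QuotientGroup.induction_on with
    | H x =>
      refine ⟨x, ?_, ?_⟩
      · intro hx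
        apply hb
        rw [eq_comm, QuotientGroup.eq, inv_one, one_mul]
        exact hx
      · rw [MulAction.stabilizer_quotient, hst]
  · rintro ⟨x, hx, rfl⟩
    refine ⟨x, ?_, ?_⟩
    · intro e
      apply hx
      have := QuotientGroup.eq.1 e.symm
      rwa [inv_one, one_mul] at this
    · rw [MulAction.stabilizer_quotient, hst]

include h

/-- **(LS)** `|G : H| ≤ r ^ 2`, `r` the number of the subgroups `H ∩ H^x`, `x ∉ H`. -/
theorem index_le_sq [Finite G] (hne : ∀ x ∉ H, H ⊓ cj x H ≠ ⊥) : H.index ≤ (twoSet H).ncard ^ 2 := by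
  have := h.faithful
  have h1 := h.toEPA.card_le_sq ((1 : G) : G ⧸ H) (by
    intro b hb e
    have h2 : stabilizer G ((1 : G) : G ⧸ H) ⊓ stabilizer G b ∈ EPA.lines G ((1 : G) : G ⧸ H) := ⟨b, hb, rfl⟩
    rw [twoSet_eq] at h2
    obtain ⟨x, hx, h3⟩ := h2
    exact hne x hx (h3.symm.trans e))
  rw [twoSet_eq] at h1
  exact h1

/-- the number of the conjugates of `H` containing a nontrivial set is at most `r` -/
theorem fix_le [Finite G] {M : Set G} (hM : ∃ m ∈ M, m ≠ 1) :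
    {c : G ⧸ H | ∀ m ∈ M, m • c = c}.ncard ≤ (twoSet H).ncard := by
  have := h.faithful
  rw [← twoSet_eq]
  exact h.toEPA.ncard_fix _ hM

end EP

end Cfsg.Agent.H284

private theorem dce_1b1172d23b93 : _root_.True := by
  try have : _root_.True := by simp only [_root_.Cfsg.Agent.H284.EP.cl.eq_1]
  exact _root_.True.intro
end

-- part: H284/EP/TForm
section
prune_inst 0x24041000000000000000a000004212000002004000010040000000c0800120040801b060020801100864003a8068100000294018000020008a0041190481140220c280081000010000c0c800080c00000000000000000000000000000000200000000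
set_option linter.all false
open scoped Cfsg.Agent.FastGrp

/-!
# Extremely primitive groups, the `T`-form (helper284)

`EPT A Γ`: `A` a maximal subgroup of the simple group `Q`, `Γ ≤ Aut(Q)` the group induced by the stabiliser `H` in the
almost simple group. The stabiliser in `Γ` of the point `xA` is `{σ ∈ Γ | x⁻¹ σ(x) ∈ A}`.
-/

set_option autoImplicit false
set_option linter.unusedSectionVars false

namespace Cfsg.Agent.H284

open MulAction Subgroup

/-- The facts about an extremely primitive almost simple group, in the language of the simple group. -/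
structure EPT {Q : Type*} [Group Q] (A : Subgroup Q) (Γ : Subgroup (MulAut Q)) : Prop where
  /-- `A` is maximal in `Q` -/
  max : IsCoatom A
  ne : A ≠ ⊥
  conj : ∀ a : Q, MulAut.conj a ∈ Γ ↔ a ∈ A
  inv : ∀ σ ∈ Γ, ∀ a : Q, σ a ∈ A ↔ a ∈ A
  /-- `N_Q(A) = A` -/
  selfnorm : ∀ x : Q, (∀ a ∈ A, x * a * x⁻¹ ∈ A) → x ∈ A
  /-- two point stabilisers are not trivial -/
  M0 : ∀ x, x ∉ A → A ⊓ cj x A ≠ ⊥
  /-- the stabiliser of `xA` is maximal in `Γ` -/
  two : ∀ x, x ∉ A → ∀ L : Subgroup (MulAut Q), L ≤ Γ → (∀ σ ∈ Γ, x⁻¹ * σ x ∈ A → σ ∈ L) →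
    L = Γ ∨ ∀ σ ∈ L, x⁻¹ * σ x ∈ A
  /-- (F1) -/
  F1 : ∀ x, x ∉ A → ∀ K : Subgroup Q, K ≤ A → (∀ σ ∈ Γ, ∀ k ∈ K, σ k ∈ K) → K ≤ cj x A → K = ⊥
  /-- (F1) for subgroups of `Γ` -/
  F1' : ∀ x, x ∉ A → ∀ K : Subgroup (MulAut Q), K ≤ Γ → (∀ σ ∈ Γ, ∀ k ∈ K, σ * k * σ⁻¹ ∈ K) →
    (∀ k ∈ K, x⁻¹ * k x ∈ A) → K = ⊥
  /-- (F3) `N_Γ(K)` for `K ≠ 1` in `M0` invariant under `Γ_{xA}` -/
  norm : ∀ x, x ∉ A → ∀ K : Subgroup Q, K ≤ A ⊓ cj x A → (∀ σ ∈ Γ, x⁻¹ * σ x ∈ A → ∀ k ∈ K, σ k ∈ K) → K ≠ ⊥ →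
    ∀ σ ∈ Γ, (∀ k ∈ K, σ k ∈ K) → x⁻¹ * σ x ∈ A
  /-- `C_Γ(A) = 1` -/
  cent : ∀ σ ∈ Γ, (∀ a ∈ A, σ a = a) → σ = 1
  /-- (F5) nilpotent `Γ`-invariant subgroups of `A` -/
  nilp : ∀ K : Subgroup Q, K ≤ A → (∀ σ ∈ Γ, ∀ k ∈ K, σ k ∈ K) → Group.IsNilpotent K → K ≠ ⊥ →
    (∀ a ∈ K, ∀ b ∈ K, a * b = b * a) ∧ (∃ r : ℕ, r.Prime ∧ ∀ a ∈ K, a ^ r = 1) ∧
    (∀ σ ∈ Γ, (∀ k ∈ K, σ k = k) → ∃ a ∈ K, σ = MulAut.conj a) ∧
    (∀ x, x ∉ A → K ⊓ cj x A = ⊥ ∧ Nat.card K * Nat.card (A ⊓ cj x A : Subgroup Q) = Nat.card A) ∧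
    A.index ≡ 1 [MOD Nat.card K]
  /-- (F3c) -/
  abM0 : ∀ x, x ∉ A → (∀ a ∈ A ⊓ cj x A, ∀ b ∈ A ⊓ cj x A, a * b = b * a) →
    ∃ K : Subgroup Q, K ≤ A ∧ (∀ σ ∈ Γ, ∀ k ∈ K, σ k ∈ K) ∧ K ≠ ⊥ ∧ ∀ a ∈ K, ∀ b ∈ K, a * b = b * a
  /-- (LS) -/
  index_le : A.index ≤ {M : Subgroup Q | ∃ x, x ∉ A ∧ M = A ⊓ cj x A}.ncard ^ 2
  fix_le : ∀ t : Q, t ≠ 1 → {c : Q ⧸ A | t • c = c}.ncard ≤ {M : Subgroup Q | ∃ x, x ∉ A ∧ M = A ⊓ cj x A}.ncard

section

variable {G : Type*} [Group G] {T : Subgroup G} [hTn : T.Normal] {Q : Type*} [Group Q] (e : T ≃* Q)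

/-- the action of `G` on `Q` -/
noncomputable def toAut : G →* MulAut Q := (MulAut.congr e).toMonoidHom.comp (MulAut.conjNormal (H := T))

/-- the embedding of `Q` -/
def toG : Q →* G := T.subtype.comp e.symm.toMonoidHom

theorem toG_inj : Function.Injective (toG e) := fun _ _ h => e.symm.injective (Subtype.ext h)

theorem toG_mem (q : Q) : toG e q ∈ T := (e.symm q).2

theorem exists_toG {t : G} (ht : t ∈ T) : ∃ q, toG e q = t := ⟨e ⟨t, ht⟩, by
  show ((e.symm (e ⟨t, ht⟩) : T) : G) = t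
  rw [MulEquiv.symm_apply_apply]⟩

theorem toG_toAut (g : G) (q : Q) : toG e (toAut e g q) = g * toG e q * g⁻¹ := by
  have h1 : toAut e g q = e (MulAut.conjNormal g (e.symm q)) := rfl
  show ((e.symm (toAut e g q) : T) : G) = _
  rw [h1, MulEquiv.symm_apply_apply, MulAut.conjNormal_apply]
  rfl

theorem toAut_toG (q : Q) : toAut e (toG e q) = MulAut.conj q := by
  ext x
  apply toG_inj e
  rw [toG_toAut, MulAut.conj_apply, map_mul, map_mul, map_inv]

theorem toAut_inj (hC : Subgroup.centralizer (T : Set G) = ⊥) : Function.Injective (toAut e) := by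
  rw [injective_iff_map_eq_one]
  intro g hg
  have h1 : g ∈ Subgroup.centralizer (T : Set G) := by
    rw [Subgroup.mem_centralizer_iff]
    intro t ht
    obtain ⟨q, rfl⟩ := exists_toG e ht
    have h2 := toG_toAut e g q
    rw [hg, MulAut.one_apply, eq_mul_inv_iff_mul_eq] at h2
    exact h2
  rw [hC, mem_bot] at h1
  exact h1

/-- the subgroup `A` of `Q` -/
def TA (H : Subgroup G) : Subgroup Q := H.comap (toG e)

theorem mem_TA {H : Subgroup G} {q : Q} : q ∈ TA e H ↔ toG e q ∈ H := Iff.rfl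

theorem cj_TA (H : Subgroup G) (x : Q) : cj x (TA e H) = TA e (cj (toG e x) H) := by
  ext q
  rw [mem_cj, mem_TA, mem_TA, mem_cj, map_mul, map_mul, map_inv]

theorem inf_TA (H K : Subgroup G) : TA e H ⊓ TA e K = TA e (H ⊓ K) := rfl

theorem stab_iff {H : Subgroup G} {g : G} (hg : g ∈ H) (x : Q) :
    x⁻¹ * toAut e g x ∈ TA e H ↔ g ∈ cj (toG e x) H := by
  rw [mem_TA, map_mul, map_inv, toG_toAut, mem_cj]
  have e1 : (toG e x)⁻¹ * (g * toG e x * g⁻¹) = (toG e x)⁻¹ * g * toG e x * g⁻¹ := by group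
  rw [e1]
  exact Subgroup.mul_mem_cancel_right H (H.inv_mem hg)

theorem map_toG_le {H : Subgroup G} {K : Subgroup Q} : K.map (toG e) ≤ H ↔ K ≤ TA e H := by
  rw [Subgroup.map_le_iff_le_comap]
  rfl

theorem map_toG_ne {K : Subgroup Q} : K.map (toG e) ≠ ⊥ ↔ K ≠ ⊥ := by
  rw [Ne, Subgroup.map_eq_bot_iff_of_injective _ (toG_inj e)]

variable {H : Subgroup G}

theorem map_toG_norm {K : Subgroup Q} {L : Subgroup G}
    (hK : ∀ σ ∈ L.map (toAut e), ∀ k ∈ K, σ k ∈ K) :
    ∀ g ∈ L, ∀ k ∈ K.map (toG e), g * k * g⁻¹ ∈ K.map (toG e) := by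
  rintro g hg _ ⟨k, hk, rfl⟩
  exact ⟨toAut e g k, hK _ ⟨g, hg, rfl⟩ k hk, toG_toAut e g k⟩

/-- **The `T`-form of an extremely primitive almost simple group.** -/
theorem EP.toEPT [Finite G] (h : EP H) (hTs : IsSimpleGroup T) (hTc : ¬ ∀ a ∈ T, ∀ b ∈ T, a * b = b * a)
    (hC : Subgroup.centralizer (T : Set G) = ⊥) (hsol : Group.IsSolvable (G ⧸ T)) :
    EPT (TA e H) (H.map (toAut e)) := by
  have hT : T ≠ ⊥ := by
    intro e
    apply hTc
    intro a ha b hb
    rw [e, mem_bot] at ha hb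
    rw [ha, hb]
  have hA := h.inf_T_ne_bot hsol hT hTc
  have hM0 : ∀ x, x ∉ H → H ⊓ cj x H ⊓ T ≠ ⊥ := fun x hx => h.M0_ne_bot hsol hTs hTc hx
  have hinj := toAut_inj e hC
  have hmem : ∀ g : G, toAut e g ∈ H.map (toAut e) ↔ g ∈ H := fun g => Subgroup.mem_map_iff_mem hinj
  have hTA : ∀ K : Subgroup G, (TA e K).map (toG e) = K ⊓ T := by
    intro K
    ext g
    constructor
    · rintro ⟨q, hq, rfl⟩
      exact ⟨hq, toG_mem e q⟩
    · rintro ⟨h1, h2⟩
      obtain ⟨q, rfl⟩ := exists_toG e h2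
      exact ⟨q, h1, rfl⟩
  have hFinQ : Finite Q := Finite.of_injective _ (toG_inj e)
  -- the bijection of the coset spaces
  let φ : Q ⧸ TA e H → G ⧸ H := fun c => ((toG e c.out : G) : G ⧸ H)
  have hφ : ∀ q : Q, φ (q : Q ⧸ TA e H) = ((toG e q : G) : G ⧸ H) := by
    intro q
    show ((toG e (Quotient.out (q : Q ⧸ TA e H)) : G) : G ⧸ H) = ((toG e q : G) : G ⧸ H)
    have h1 : ((Quotient.out (q : Q ⧸ TA e H) : Q) : Q ⧸ TA e H) = (q : Q ⧸ TA e H) := QuotientGroup.out_eq' _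
    have h2 := QuotientGroup.eq.1 h1
    rw [QuotientGroup.eq]
    rw [mem_TA, map_mul, map_inv] at h2
    exact h2
  have hφi : Function.Injective φ := by
    intro c d hcd
    induction c using QuotientGroup.induction_on with
    | H x =>
      induction d using QuotientGroup.induction_on with
      | H y =>
        rw [hφ, hφ, QuotientGroup.eq] at hcd
        rw [QuotientGroup.eq, mem_TA, map_mul, map_inv]
        exact hcd
  have hφs : Function.Surjective φ := by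
    intro c
    induction c using QuotientGroup.induction_on with
    | H x =>
      obtain ⟨t, ht, a, ha, e1⟩ := h.exists_T hT x
      obtain ⟨q, rfl⟩ := exists_toG e ht
      refine ⟨(q : Q ⧸ TA e H), ?_⟩
      rw [hφ, e1, QuotientGroup.eq, inv_mul_cancel_left]
      exact ha
  have hidx : (TA e H).index = H.index := Nat.card_congr (Equiv.ofBijective φ ⟨hφi, hφs⟩)
  -- the two point stabilisers
  have htwo : (EP.twoSet H).ncard ≤ {M : Subgroup Q | ∃ x, x ∉ TA e H ∧ M = TA e H ⊓ cj x (TA e H)}.ncard := by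
    refine Set.ncard_le_ncard_of_injOn (fun M => TA e M) ?_ ?_ (Set.toFinite _)
    · rintro _ ⟨x, hx, rfl⟩
      obtain ⟨t, ht, h1, h2⟩ := h.exists_cj_T hT x
      obtain ⟨q, rfl⟩ := exists_toG e ht
      refine ⟨q, h2 hx, ?_⟩
      show TA e (H ⊓ cj x H) = _
      rw [h1, cj_TA, inf_TA]
    · have key : ∀ x y, x ∉ H → y ∉ H → TA e (H ⊓ cj x H) = TA e (H ⊓ cj y H) → H ⊓ cj y H ≤ H ⊓ cj x H := by
        intro x y hx _ he m hm
        have he' : H ⊓ cj x H ⊓ T = H ⊓ cj y H ⊓ T := by rw [← hTA, ← hTA, he]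
        refine ⟨(mem_inf.1 hm).1, ?_⟩
        apply h.norm hx (X := H ⊓ cj x H ⊓ T) inf_le_left _ (hM0 x hx) (mem_inf.1 hm).1
        · intro k hk
          rw [he'] at hk ⊢
          exact ⟨(H ⊓ cj y H).mul_mem ((H ⊓ cj y H).mul_mem hm (mem_inf.1 hk).1) ((H ⊓ cj y H).inv_mem hm),
            hTn.conj_mem k (mem_inf.1 hk).2 m⟩
        · intro m' hm' k hk
          exact ⟨(H ⊓ cj x H).mul_mem ((H ⊓ cj x H).mul_mem hm' (mem_inf.1 hk).1) ((H ⊓ cj x H).inv_mem hm'),
            hTn.conj_mem k (mem_inf.1 hk).2 m'⟩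
      rintro _ ⟨x, hx, rfl⟩ _ ⟨y, hy, rfl⟩ he
      exact le_antisymm (key y x hy hx he.symm) (key x y hx hy he)
  refine ⟨⟨?_, ?_⟩, ?_, ?_, ?_, ?_, ?_, ?_, ?_, ?_, ?_, ?_, ?_, ?_, ?_, ?_⟩
  · intro he
    apply h.T_not_le hT
    intro t ht
    obtain ⟨q, rfl⟩ := exists_toG e ht
    have : q ∈ TA e H := by rw [he]; exact mem_top _
    exact this
  · intro L hL
    rcases h.T_max hA (L := L.map (toG e)) (by
      rw [← hTA]; exact Subgroup.map_mono hL.le) (by
      rintro _ ⟨q, _, rfl⟩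
      exact toG_mem e q) with h1 | h1
    · exfalso
      rw [← hTA] at h1
      exact hL.ne' (Subgroup.map_injective (toG_inj e) h1)
    · rw [Subgroup.eq_top_iff']
      intro q
      have h2 : toG e q ∈ L.map (toG e) := by rw [h1]; exact toG_mem e q
      exact (Subgroup.mem_map_iff_mem (toG_inj e)).1 h2
  · rw [← map_toG_ne e, hTA]
    exact hA
  · intro a
    rw [← toAut_toG e, hmem]
    rfl
  · rintro _ ⟨g, hg, rfl⟩ a
    rw [mem_TA, mem_TA, toG_toAut]
    rw [Subgroup.mul_mem_cancel_right H (H.inv_mem hg), Subgroup.mul_mem_cancel_left H hg]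
  · intro x hx
    apply h.norm_A hTs hA (toG_mem e x)
    rintro a ⟨ha1, ha2⟩
    obtain ⟨q, rfl⟩ := exists_toG e ha2
    have := hx q ha1
    rw [mem_TA, map_mul, map_mul, map_inv] at this
    exact ⟨this, T.mul_mem (T.mul_mem (toG_mem e x) ha2) (T.inv_mem (toG_mem e x))⟩
  · intro x hx
    rw [cj_TA, inf_TA, ← map_toG_ne e, hTA]
    exact hM0 _ hx
  · intro x hx L hL hLx
    rcases h.two (toG e x) hx (L.comap (toAut e) ⊓ H) (by
      intro g hg
      refine ⟨hLx _ ⟨g, (mem_inf.1 hg).1, rfl⟩ ((stab_iff e (mem_inf.1 hg).1 x).2 (mem_inf.1 hg).2),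
        (mem_inf.1 hg).1⟩) inf_le_right with h1 | h1
    · right
      intro σ hσ
      obtain ⟨g, hg, rfl⟩ := hL hσ
      rw [stab_iff e hg]
      have : g ∈ L.comap (toAut e) ⊓ H := ⟨hσ, hg⟩
      rw [h1] at this
      exact (mem_inf.1 this).2
    · left
      apply le_antisymm hL
      rintro _ ⟨g, hg, rfl⟩
      rw [← h1] at hg
      exact hg.1
  · intro x hx K hK hKn hKx
    rw [cj_TA] at hKx
    have h1 := h.F1 ((map_toG_le e).2 hK) (map_toG_norm e hKn) (x := toG e x) hx ((map_toG_le e).2 hKx)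
    by_contra hne
    exact (map_toG_ne e).2 hne h1
  · intro x hx K hK hKn hKx
    have h1 : K.comap (toAut e) ⊓ H = ⊥ := by
      apply h.F1 (x := toG e x) inf_le_right _ hx
      · intro g hg
        rw [← stab_iff e (mem_inf.1 hg).2]
        exact hKx _ (mem_inf.1 hg).1
      · rintro g hg k ⟨hk1, hk2⟩
        refine ⟨?_, H.mul_mem (H.mul_mem hg hk2) (H.inv_mem hg)⟩
        show toAut e (g * k * g⁻¹) ∈ K
        rw [map_mul, map_mul, map_inv]
        exact hKn _ ⟨g, hg, rfl⟩ _ hk1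
    rw [Subgroup.eq_bot_iff_forall]
    intro σ hσ
    obtain ⟨g, hg, rfl⟩ := hK hσ
    have h2 : g ∈ K.comap (toAut e) ⊓ H := ⟨hσ, hg⟩
    rw [h1, mem_bot] at h2
    rw [h2, map_one]
  · intro x hx K hK hKn hne σ hσ hσK
    obtain ⟨g, hg, rfl⟩ := hσ
    rw [stab_iff e hg]
    rw [cj_TA, inf_TA] at hK
    apply h.norm hx ((map_toG_le e).2 hK) _ ((map_toG_ne e).2 hne) hg
    · rintro _ ⟨k, hk, rfl⟩
      exact ⟨_, hσK k hk, toG_toAut e g k⟩
    · rintro m hm _ ⟨k, hk, rfl⟩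
      exact ⟨_, hKn _ ⟨m, (mem_inf.1 hm).1, rfl⟩ ((stab_iff e (mem_inf.1 hm).1 x).2 (mem_inf.1 hm).2) k hk,
        toG_toAut e m k⟩
  · rintro _ ⟨g, hg, rfl⟩ hgA
    obtain ⟨x, hx⟩ := h.exists_notMem
    have : g = 1 := by
      apply h.cent_A hx (hM0 x hx) hg
      rintro a ⟨ha1, ha2⟩
      obtain ⟨q, rfl⟩ := exists_toG e ha2
      have h2 := toG_toAut e g q
      rw [hgA q ha1, eq_mul_inv_iff_mul_eq] at h2
      exact h2.symm
    rw [this, map_one]
  · intro K hK hKn hnil hne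
    have hX := (map_toG_le e).2 hK
    have hXn := map_toG_norm e hKn
    have hXne := (map_toG_ne e).2 hne
    have hXnil : Group.IsNilpotent (K.map (toG e)) := by
      have e2 : K ≃* K.map (toG e) := K.equivMapOfInjective _ (toG_inj e)
      exact Group.nilpotent_of_surjective e2.toMonoidHom e2.surjective
    have hXab := h.nilp_ab hX hXn hXnil
    have hmemX : ∀ k, toG e k ∈ K.map (toG e) ↔ k ∈ K := fun k => Subgroup.mem_map_iff_mem (toG_inj e)
    have hcard : Nat.card (K.map (toG e)) = Nat.card K :=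
      (Nat.card_congr (K.equivMapOfInjective _ (toG_inj e)).toEquiv).symm
    refine ⟨?_, ?_, ?_, ?_, ?_⟩
    · intro a ha b hb
      apply toG_inj e
      rw [map_mul, map_mul]
      exact hXab _ ((hmemX a).2 ha) _ ((hmemX b).2 hb)
    · obtain ⟨r, hr, hr'⟩ := h.ab_elem hX hXn hXne hXab
      refine ⟨r, hr, fun a ha => toG_inj e ?_⟩
      rw [map_pow, map_one]
      exact hr' _ ((hmemX a).2 ha)
    · rintro _ ⟨g, hg, rfl⟩ hgK
      have h1 := h.ab_cent hX hXn hXne hXab hg (by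
        rintro _ ⟨k, hk, rfl⟩
        have h2 := toG_toAut e g k
        rw [hgK k hk, eq_mul_inv_iff_mul_eq] at h2
        exact h2.symm)
      obtain ⟨a, ha, rfl⟩ := h1
      exact ⟨a, ha, toAut_toG e a⟩
    · intro x hx
      have hinf : K ⊓ cj x (TA e H) = ⊥ := by
        rw [Subgroup.eq_bot_iff_forall]
        intro k hk
        have h1 := h.ab_inf hX hXn hXne hXab (x := toG e x) hx
        have h2 : toG e k ∈ K.map (toG e) ⊓ cj (toG e x) H := by
          refine ⟨(hmemX k).2 (mem_inf.1 hk).1, ?_⟩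
          have := (mem_inf.1 hk).2
          rw [cj_TA] at this
          exact this
        rw [h1, mem_bot] at h2
        apply toG_inj e
        rw [h2, map_one]
      refine ⟨hinf, ?_⟩
      rw [← Nat.card_prod]
      apply Nat.card_congr
      refine Equiv.ofBijective (fun p => (⟨p.1.1 * p.2.1, mul_mem (hK p.1.2) (mem_inf.1 p.2.2).1⟩ : TA e H)) ⟨?_, ?_⟩
      · rintro ⟨a, b⟩ ⟨c, d⟩ he
        have e1 : (a : Q) * b = c * d := Subtype.ext_iff.1 he
        have e2 : (c : Q)⁻¹ * a = d * (b : Q)⁻¹ := by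
          rw [inv_mul_eq_iff_eq_mul, ← mul_assoc, ← e1, mul_assoc, mul_inv_cancel, mul_one]
        have h1 : (c : Q)⁻¹ * a ∈ K ⊓ cj x (TA e H) := by
          refine ⟨K.mul_mem (K.inv_mem c.2) a.2, ?_⟩
          rw [e2]
          exact (cj x (TA e H)).mul_mem (mem_inf.1 d.2).2 ((cj x (TA e H)).inv_mem (mem_inf.1 b.2).2)
        rw [hinf, mem_bot] at h1
        rw [h1] at e2
        rw [inv_mul_eq_one] at h1
        have h2 : (d : Q) = b := by
          rw [eq_comm, mul_inv_eq_one] at e2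
          exact e2
        exact Prod.ext (Subtype.ext h1.symm) (Subtype.ext h2.symm)
      · rintro ⟨g, hg⟩
        obtain ⟨_, ⟨k, hk, rfl⟩, m, hm, e1⟩ := h.fac hX hXn hXne (x := toG e x) hx (g := toG e g) hg
        have hmT : m ∈ T := by
          have h2 : m = (toG e k)⁻¹ * toG e g := by rw [e1, inv_mul_cancel_left]
          rw [h2]
          exact T.mul_mem (T.inv_mem (toG_mem e k)) (toG_mem e g)
        obtain ⟨q, rfl⟩ := exists_toG e hmT
        refine ⟨(⟨k, hk⟩, ⟨q, ?_⟩), ?_⟩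
        · rw [cj_TA, inf_TA]
          exact hm
        · apply Subtype.ext
          apply toG_inj e
          show toG e (k * q) = toG e g
          rw [map_mul, e1]
    · rw [hidx, ← hcard]
      exact h.ab_index hX hXn hXne hXab
  · intro x hx hab
    rw [cj_TA, inf_TA] at hab
    obtain ⟨K, h1, h2, h3, h4⟩ := h.abelian_M0 (T := T) (x := toG e x) hx hA (by
      rintro a ⟨ha1, ha2⟩ b ⟨hb1, hb2⟩
      obtain ⟨p, rfl⟩ := exists_toG e ha2
      obtain ⟨q, rfl⟩ := exists_toG e hb2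
      rw [← map_mul, hab p ha1 q hb1, map_mul]) (hM0 _ hx)
    refine ⟨TA e K, fun q hq => (mem_inf.1 (h1 hq)).1, ?_, ?_, ?_⟩
    · rintro _ ⟨g, hg, rfl⟩ k hk
      rw [mem_TA, toG_toAut]
      exact h2 g hg _ hk
    · rw [← map_toG_ne e, hTA, inf_eq_left.2 (h1.trans inf_le_right)]
      exact h3
    · intro a ha b hb
      apply toG_inj e
      rw [map_mul, map_mul]
      exact h4 _ ha _ hb
  · rw [hidx]
    refine (h.index_le_sq ?_).trans (Nat.pow_le_pow_left htwo 2)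
    intro x hx e1
    apply hM0 x hx
    rw [e1, bot_inf_eq]
  · intro t ht
    refine le_trans ?_ ((h.fix_le (M := {toG e t}) ⟨_, rfl, fun e1 => ht (toG_inj e (e1.trans (map_one _).symm))⟩).trans htwo)
    refine Set.ncard_le_ncard_of_injOn φ ?_ hφi.injOn (Set.toFinite _)
    intro c hc m hm
    rw [Set.mem_singleton_iff] at hm
    subst hm
    induction c using QuotientGroup.induction_on with
    | H x =>
      have h1 : t • (x : Q ⧸ TA e H) = x := hc
      rw [MulAction.Quotient.smul_coe, smul_eq_mul] at h1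
      rw [hφ, MulAction.Quotient.smul_coe, smul_eq_mul, ← map_mul, ← hφ, h1, hφ]

end

theorem aut_conj {Q : Type*} [Group Q] (τ : MulAut Q) (k : Q) : τ * MulAut.conj k * τ⁻¹ = MulAut.conj (τ k) := by
  rw [mul_inv_eq_iff_eq_mul]
  ext q
  rw [MulAut.mul_apply, MulAut.mul_apply, MulAut.conj_apply, MulAut.conj_apply, map_mul, map_mul, map_inv]

namespace EPT

variable {Q : Type*} [Group Q] {A : Subgroup Q} {Γ : Subgroup (MulAut Q)} (h : EPT A Γ)

include h

theorem exists_stab {x : Q} (hx : x ∉ A) : ∃ σ ∈ Γ, x⁻¹ * σ x ∉ A := by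
  by_contra hcon
  push Not at hcon
  have h1 := h.F1' x hx Γ le_rfl (fun σ hσ k hk => mul_mem (mul_mem hσ hk) (inv_mem hσ)) hcon
  apply hx
  apply h.selfnorm
  intro a ha
  have h2 := (h.conj a).2 ha
  rw [h1, mem_bot] at h2
  have h3 : a * x * a⁻¹ = x := by
    have := congrArg (fun σ : MulAut Q => σ x) h2
    exact this
  have h4 : x * a * x⁻¹ = a := by
    rw [mul_inv_eq_iff_eq_mul] at h3 ⊢
    exact h3.symm
  rw [h4]
  exact ha

theorem exists_notMem : ∃ x, x ∉ A := by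
  by_contra hcon
  push Not at hcon
  exact h.max.1 ((Subgroup.eq_top_iff' A).2 hcon)

/-- `a ∈ A` fixes the point `xA` iff `a ∈ A^x` -/
theorem conj_stab {a x : Q} (ha : a ∈ A) : x⁻¹ * MulAut.conj a x ∈ A ↔ a ∈ cj x A := by
  rw [MulAut.conj_apply, mem_cj]
  have e1 : x⁻¹ * (a * x * a⁻¹) = x⁻¹ * a * x * a⁻¹ := by group
  rw [e1]
  exact Subgroup.mul_mem_cancel_right A (A.inv_mem ha)

/-- the elements of `Γ` fixing the point `xA` normalise `A ∩ A^x` -/
theorem stab_M0 {x : Q} {σ : MulAut Q} (hσ : σ ∈ Γ) (hσx : x⁻¹ * σ x ∈ A) {y : Q} (hy : y ∈ A ⊓ cj x A) :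
    σ y ∈ A ⊓ cj x A := by
  refine ⟨(h.inv σ hσ y).2 (mem_inf.1 hy).1, mem_cj.2 ?_⟩
  have h1 := mem_cj.1 (mem_inf.1 hy).2
  have h2 := (h.inv σ hσ _).2 h1
  rw [map_mul, map_mul, map_inv] at h2
  have e : x⁻¹ * σ y * x = (x⁻¹ * σ x) * ((σ x)⁻¹ * σ y * σ x) * (x⁻¹ * σ x)⁻¹ := by group
  rw [e]
  exact A.mul_mem (A.mul_mem hσx h2) (A.inv_mem hσx)

/-- **(F3)** for subgroups of `A ∩ A^x` which are invariant under the automorphisms of `Q` preserving `A ∩ A^x` -/
theorem norm_aut {x : Q} (hx : x ∉ A) {K : Subgroup Q} (hK : K ≤ A ⊓ cj x A)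
    (hKn : ∀ σ : MulAut Q, (∀ y ∈ A ⊓ cj x A, σ y ∈ A ⊓ cj x A) → ∀ k ∈ K, σ k ∈ K) (hne : K ≠ ⊥) {a : Q} (ha : a ∈ A)
    (haK : ∀ k ∈ K, a * k * a⁻¹ ∈ K) : a ∈ cj x A := by
  rw [← h.conj_stab ha]
  exact h.norm x hx K hK (fun σ hσ hσx => hKn σ fun y hy => h.stab_M0 hσ hσx hy) hne _ ((h.conj a).2 ha) haK

/-- **(F3)** for characteristic subgroups of `A ∩ A^x` -/
theorem norm_char [Finite Q] {x : Q} (hx : x ∉ A) (K : Subgroup (A ⊓ cj x A : Subgroup Q)) [hK : K.Characteristic]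
    (hne : K ≠ ⊥) {a : Q} (ha : a ∈ A)
    (haK : ∀ k ∈ K.map (Subgroup.subtype _), a * k * a⁻¹ ∈ K.map (Subgroup.subtype _)) : a ∈ cj x A := by
  refine h.norm_aut hx (K := K.map (Subgroup.subtype _)) ?_ ?_ ?_ ha haK
  · rintro _ ⟨y, _, rfl⟩
    exact y.2
  · intro σ hσ
    have hs : ∀ y : (A ⊓ cj x A : Subgroup Q), σ y ∈ A ⊓ cj x A := fun y => hσ y y.2
    let f : (A ⊓ cj x A : Subgroup Q) →* (A ⊓ cj x A : Subgroup Q) :=
      (σ.toMonoidHom.comp (Subgroup.subtype _)).codRestrict _ hs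
    have hf : Function.Injective f := by
      intro y z e
      have e' : σ y = σ z := Subtype.ext_iff.1 e
      exact Subtype.ext (σ.injective e')
    let τ : MulAut (A ⊓ cj x A : Subgroup Q) := MulEquiv.ofBijective f (Finite.injective_iff_bijective.1 hf)
    have hτ : K.map τ.toMonoidHom = K := Subgroup.characteristic_iff_map_eq.1 hK τ
    rintro _ ⟨k, hk, rfl⟩
    have h1 : τ k ∈ K := by
      rw [← hτ]
      exact ⟨k, hk, rfl⟩
    exact ⟨τ k, h1, rfl⟩
  · intro e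
    rw [Subgroup.map_eq_bot_iff_of_injective _ (Subgroup.subtype_injective _)] at e
    exact hne e

/-- A subgroup `R ≠ 1` consisting of all the `r`-elements of `A ∩ A^x` is a Sylow subgroup of `A`. -/
theorem sylow [Finite Q] {x : Q} (hx : x ∉ A) {r : ℕ} (hr : r.Prime) {R : Subgroup Q}
    (hR : ∀ y, y ∈ R ↔ y ∈ A ⊓ cj x A ∧ ∃ k : ℕ, y ^ (r ^ k) = 1) (hne : R ≠ ⊥) {P : Subgroup Q} (hP : P ≤ A)
    (hPp : IsPGroup r P) (hRP : R ≤ P) : P = R := by
  by_contra hcon
  obtain ⟨y, hyP, hyR, hyn⟩ := exists_norm_lt hr hPp hRP hcon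
  apply hyR
  have h1 : y ∈ cj x A := by
    refine h.norm_aut hx (K := R) (fun k hk => ((hR k).1 hk).1) ?_ hne (hP hyP) hyn
    intro σ hσ k hk
    obtain ⟨h1, l, hl⟩ := (hR k).1 hk
    exact (hR _).2 ⟨hσ k h1, l, by rw [← map_pow, hl, map_one]⟩
  obtain ⟨k, hk⟩ := hPp ⟨y, hyP⟩
  exact (hR y).2 ⟨⟨hP hyP, h1⟩, k, Subtype.ext_iff.1 hk⟩

/-- `A = K (A ∩ A^x)` for `K ≠ 1` invariant under `Γ` -/
theorem fac {K : Subgroup Q} (hK : K ≤ A) (hKn : ∀ σ ∈ Γ, ∀ k ∈ K, σ k ∈ K) (hne : K ≠ ⊥) {x : Q} (hx : x ∉ A)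
    {σ : MulAut Q} (hσ : σ ∈ Γ) : ∃ k ∈ K, ∃ τ ∈ Γ, x⁻¹ * τ x ∈ A ∧ σ = MulAut.conj k * τ := by
  let L : Subgroup (MulAut Q) :=
    { carrier := {σ | σ ∈ Γ ∧ ∃ k ∈ K, ∃ τ ∈ Γ, x⁻¹ * τ x ∈ A ∧ σ = MulAut.conj k * τ}
      one_mem' := ⟨one_mem _, 1, one_mem _, 1, one_mem _, by
        rw [MulAut.one_apply, inv_mul_cancel]; exact one_mem _, by rw [map_one, one_mul]⟩
      mul_mem' := by
        rintro σ₁ σ₂ ⟨h1, k₁, hk₁, τ₁, hτ₁, hx₁, e₁⟩ ⟨h2, k₂, hk₂, τ₂, hτ₂, hx₂, e₂⟩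
        refine ⟨mul_mem h1 h2, k₁ * τ₁ k₂, mul_mem hk₁ (hKn _ hτ₁ _ hk₂), τ₁ * τ₂, mul_mem hτ₁ hτ₂, ?_, ?_⟩
        · rw [MulAut.mul_apply]
          have e : x⁻¹ * τ₁ (τ₂ x) = (x⁻¹ * τ₁ x) * τ₁ (x⁻¹ * τ₂ x) := by
            rw [map_mul, map_inv]; group
          rw [e]
          exact A.mul_mem hx₁ ((h.inv _ hτ₁ _).2 hx₂)
        · rw [e₁, e₂, map_mul, ← aut_conj]
          group
      inv_mem' := by
        rintro σ ⟨h1, k, hk, τ, hτ, hx₁, e⟩
        refine ⟨inv_mem h1, τ⁻¹ k⁻¹, hKn _ (inv_mem hτ) _ (inv_mem hk), τ⁻¹, inv_mem hτ, ?_, ?_⟩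
        · have h3 := (h.inv _ (Γ.inv_mem hτ) _).2 (A.inv_mem hx₁)
          have e4 : τ⁻¹ (x⁻¹ * τ x)⁻¹ = x⁻¹ * τ⁻¹ x := by
            rw [mul_inv_rev, map_mul, map_inv, MulAut.inv_apply_self, inv_inv]
          rwa [e4] at h3
        · rw [e, ← aut_conj, map_inv MulAut.conj k]
          group }
  have hKL : ∀ k ∈ K, MulAut.conj k ∈ L := fun k hk =>
    ⟨(h.conj k).2 (hK hk), k, hk, 1, one_mem _, by
      rw [MulAut.one_apply, inv_mul_cancel]; exact one_mem _, by rw [mul_one]⟩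
  rcases h.two x hx L (fun σ hσ => hσ.1) (fun σ hσ hσx => ⟨hσ, 1, one_mem _, σ, hσ, hσx, by rw [map_one, one_mul]⟩)
    with h1 | h1
  · rw [← h1] at hσ
    exact hσ.2
  · exfalso
    apply hne
    apply h.F1 x hx K hK hKn
    intro k hk
    exact (h.conj_stab (hK hk)).1 (h1 _ (hKL k hk))

/-- `A = K (A ∩ A^x)` for `K ≠ 1` invariant under `Γ` -/
theorem fac_A {K : Subgroup Q} (hK : K ≤ A) (hKn : ∀ σ ∈ Γ, ∀ k ∈ K, σ k ∈ K) (hne : K ≠ ⊥) {x : Q} (hx : x ∉ A)
    {a : Q} (ha : a ∈ A) : ∃ k ∈ K, ∃ m ∈ A ⊓ cj x A, a = k * m := by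
  obtain ⟨k, hk, τ, hτ, hτx, e⟩ := h.fac hK hKn hne hx ((h.conj a).2 ha)
  have hm : k⁻¹ * a ∈ A := A.mul_mem (A.inv_mem (hK hk)) ha
  refine ⟨k, hk, k⁻¹ * a, ⟨hm, ?_⟩, by rw [mul_inv_cancel_left]⟩
  apply (h.conj_stab hm).1
  have e2 : MulAut.conj (k⁻¹ * a) = τ := by rw [map_mul, e, map_inv, inv_mul_cancel_left]
  rw [e2]
  exact hτx

/-! ### root elements -/

omit h in
/-- `z` is free: `σ(z) z⁻¹`-differences are not in `A` -/
def RLFree (A : Subgroup Q) (Γ : Subgroup (MulAut Q)) (z : Q) : Prop := z ∉ A ∧ ∀ σ ∈ Γ, z⁻¹ * σ z ∈ A → σ z = z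

omit h in
/-- `z`, `z'` are joined -/
def RLEdge (Γ : Subgroup (MulAut Q)) (z z' : Q) : Prop :=
  ∃ S : Subgroup (MulAut Q), S ≤ Γ ∧ S ≠ Γ ∧ (∀ σ ∈ Γ, σ z = z → σ ∈ S) ∧ ∀ σ ∈ Γ, σ z' = z' → σ ∈ S

theorem RLEdge.of_fix {z z' : Q} (hz' : RLFree A Γ z') (hc : ∀ σ ∈ Γ, σ z = z → σ z' = z') : RLEdge Γ z z' := by
  refine ⟨{ carrier := {σ | σ ∈ Γ ∧ σ z' = z'}
            one_mem' := ⟨one_mem _, rfl⟩
            mul_mem' := fun {a b} ha hb => ⟨mul_mem ha.1 hb.1, by rw [MulAut.mul_apply, hb.2, ha.2]⟩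
            inv_mem' := fun {a} ha => ⟨inv_mem ha.1, by
              conv_lhs => rw [← ha.2]
              rw [MulAut.inv_apply_self]⟩ }, fun σ hσ => hσ.1, ?_, fun σ hσ hσz => ⟨hσ, hc σ hσ hσz⟩,
            fun σ hσ hσz => ⟨hσ, hσz⟩⟩
  intro e
  obtain ⟨σ, hσ, h1⟩ := h.exists_stab hz'.1
  apply h1
  have h2 := hσ
  rw [← e] at h2
  rw [h2.2, inv_mul_cancel]
  exact one_mem _

theorem RLEdge.fix {z z' : Q} (hz : RLFree A Γ z) (hz' : RLFree A Γ z') (he : RLEdge Γ z z') {σ : MulAut Q}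
    (hσ : σ ∈ Γ) : σ z = z ↔ σ z' = z' := by
  obtain ⟨S, h1, h2, h3, h4⟩ := he
  have key : ∀ w, RLFree A Γ w → (∀ σ ∈ Γ, σ w = w → σ ∈ S) → ∀ σ ∈ Γ, σ w = w ↔ σ ∈ S := by
    intro w hw h5 σ hσ
    refine ⟨h5 σ hσ, fun hS => ?_⟩
    rcases h.two w hw.1 S h1 (fun τ hτ hτw => h5 τ hτ (hw.2 τ hτ hτw)) with h6 | h6
    · exact absurd h6 h2
    · exact hw.2 σ hσ (h6 σ hS)
  rw [key z hz h3 σ hσ, key z' hz' h4 σ hσ]

/-- **(CL)** -/
theorem CL {Y : Subgroup Q} {C : Set Q} (hCA : ∀ c ∈ C, c ∈ A) (hYA : Y ≤ A)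
    (hyp : ∀ x ∉ A, Y ≤ cj x A → ∀ c ∈ C, c ∈ cj x A) {t : Q} (ht : ∀ y ∈ Y, t * y * t⁻¹ ∈ Y) {c : Q} (hc : c ∈ C) :
    t * c * t⁻¹ ∈ A := EP.CL hCA hYA hyp ht hc

end EPT

/-! ### wrappers for S3499 and S5745 -/

/-- from the hypotheses of S3499 (and `G/T` solvable) -/
theorem ept_of_preprimitive {G : Type*} [Group G] [Finite G] {Ω : Type*} [Fintype Ω] [MulAction G Ω] [FaithfulSMul G Ω]
    (T : Subgroup G) [T.Normal] (hT : IsSimpleGroup T) (hTc : ¬ IsMulCommutative T)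
    (hC : Subgroup.centralizer (T : Set G) = ⊥) (hprim : MulAction.IsPreprimitive G Ω)
    (hH : ∀ α : Ω, MulAction.stabilizer G α ≠ ⊥)
    (hep : ∀ (α : Ω) (ω : Ω), MulAction.IsPreprimitive (MulAction.stabilizer G α)
      (MulAction.orbit (MulAction.stabilizer G α) ω))
    (hsol : Group.IsSolvable (G ⧸ T)) {Q : Type*} [Group Q] (e : T ≃* Q) (α : Ω) :
    EPT (TA e (MulAction.stabilizer G α)) ((MulAction.stabilizer G α).map (toAut e)) := by
  refine ((EPA.of_preprimitive hprim hH hep).toEP α).toEPT e hT ?_ hC hsol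
  intro hcomm
  exact hTc ⟨⟨fun a b => Subtype.ext (hcomm a a.2 b b.2)⟩⟩

end Cfsg.Agent.H284
end

-- part: H209/EPX/Defs
section
set_option linter.all false
open scoped Cfsg.Agent.FastGrp

/-!
# S5745 (extremely primitive exceptional groups): the frame (driver helper209)

* `EPA2 H X` : `X` is an abelian normal subgroup of `H`, `X ≠ 1`  (case AFF);
* `EPT2 H N N' e e'` : two commuting nonabelian minimal normal subgroups of `H` (case TWO);
* `EPS H N e` : `H` is the stabiliser, `N ≅ T^k` its unique minimal normal subgroup, nonabelian, `C_G(N) = 1`;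
* `EP.trichotomy` : one of the three holds.
-/

set_option autoImplicit false
set_option linter.unusedSectionVars false

namespace Cfsg.Agent.H209.EPX

open MulAction Subgroup Cfsg.Agent.H284

variable {G : Type*} [Group G]

/-- `K` is a subgroup of `H` normalised by `H` -/
structure NIn (K H : Subgroup G) : Prop where
  le : K ≤ H
  nrm : ∀ g ∈ H, ∀ k ∈ K, g * k * g⁻¹ ∈ K

/-- `N` is a minimal normal subgroup of `H` -/
structure MinN (N H : Subgroup G) : Prop extends NIn N H where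
  ne : N ≠ ⊥
  min : ∀ K ≤ N, NIn K H → K = ⊥ ∨ K = N

/-- The stabiliser `H` of an extremely primitive group, `N ≅ T^k` its unique minimal normal subgroup. -/
structure EPS (H N : Subgroup G) {T : Type} [Group T] {k : ℕ} (e : N ≃* (Fin k → T)) : Prop extends MinN N H where
  ep : EP H
  pos : 0 < k
  simple : IsSimpleGroup T
  nab : ∃ a b : T, a * b ≠ b * a
  cent : Subgroup.centralizer (N : Set G) = ⊥
  least : ∀ K : Subgroup G, NIn K H → K ≠ ⊥ → N ≤ K

/-- Two commuting nonabelian minimal normal subgroups of the stabiliser. -/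
structure EPT2 (H N N' : Subgroup G) {T : Type} [Group T] {k : ℕ} (e : N ≃* (Fin k → T)) : Prop where
  ep : EP H
  m1 : MinN N H
  m2 : MinN N' H
  pos : 0 < k
  simple : IsSimpleGroup T
  nab : ∃ a b : T, a * b ≠ b * a
  nab' : ∃ a ∈ N', ∃ b ∈ N', a * b ≠ b * a
  comm : ∀ a ∈ N, ∀ b ∈ N', a * b = b * a
  cen : ∀ c : G, (∀ a ∈ N, c * a = a * c) → c ∈ N'
  cen' : ∀ c : G, (∀ a ∈ N', c * a = a * c) → c ∈ N

/-- `X` is an abelian normal subgroup of the stabiliser. -/
structure EPA2 (H X : Subgroup G) : Prop where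
  ep : EP H
  m : MinN X H
  ab : ∀ a ∈ X, ∀ b ∈ X, a * b = b * a

theorem exists_minN [Finite G] {H : Subgroup G} {K : Subgroup G} (hK : NIn K H) (hne : K ≠ ⊥) :
    ∃ N ≤ K, MinN N H := by
  classical
  have hfin : Finite (Subgroup G) := inferInstance
  obtain ⟨N, ⟨hN1, hN2, hN3⟩, hmin⟩ := (Set.toFinite {N : Subgroup G | N ≤ K ∧ NIn N H ∧ N ≠ ⊥}).exists_minimal
    ⟨K, le_rfl, hK, hne⟩
  refine ⟨N, hN1, ⟨hN2, hN3, fun L hL hLn => ?_⟩⟩
  by_cases h : L = ⊥
  · exact Or.inl h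
  · exact Or.inr (le_antisymm hL (hmin ⟨hL.trans hN1, hLn, h⟩ hL))

theorem MinN.exists_pi [Finite G] {N H : Subgroup G} (h : MinN N H) :
    ∃ (T : Type) (_ : Group T) (k : ℕ), IsSimpleGroup T ∧ 0 < k ∧ Nonempty (N ≃* (Fin k → T)) := by
  have hn : (N.subgroupOf H).Normal := by
    constructor
    intro n hn g
    exact h.nrm g g.2 n hn
  obtain ⟨T, i1, k, h1, h2, ⟨e⟩⟩ := Cfsg.Agent.S0721.result (N.subgroupOf H) (by
    intro e
    apply h.ne
    rw [Subgroup.eq_bot_iff_forall]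
    intro x hx
    have h1 : (⟨x, h.le hx⟩ : H) ∈ N.subgroupOf H := hx
    rw [e, mem_bot] at h1
    exact Subtype.ext_iff.1 h1) (by
    intro M hM hMN
    have h1 : NIn (M.map H.subtype) H := by
      refine ⟨?_, ?_⟩
      · rintro _ ⟨y, _, rfl⟩
        exact y.2
      · rintro g hg _ ⟨y, hy, rfl⟩
        exact ⟨_, hM.conj_mem y hy ⟨g, hg⟩, rfl⟩
    have h2 : M.map H.subtype ≤ N := by
      rintro _ ⟨y, hy, rfl⟩
      exact hMN hy
    rcases h.min _ h2 h1 with h3 | h3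
    · left
      rwa [Subgroup.map_eq_bot_iff_of_injective _ H.subtype_injective] at h3
    · right
      apply le_antisymm hMN
      intro x hx
      have h4 : (x : G) ∈ M.map H.subtype := by rw [h3]; exact hx
      obtain ⟨y, hy, hyx⟩ := h4
      have : y = x := Subtype.ext hyx
      rwa [← this])
  exact ⟨T, i1, k, h1, h2, ⟨(Subgroup.subgroupOfEquivOfLe h.le).symm.trans e⟩⟩

section

variable [Finite G] {H : Subgroup G} (h : EP H)

include h

theorem _root_.Cfsg.Agent.H284.EP.norm_le {K : Subgroup G} (hK : NIn K H) (hne : K ≠ ⊥) {g : G}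
    (hg : ∀ k ∈ K, g * k * g⁻¹ ∈ K) : g ∈ H := by
  by_contra hgH
  apply hne
  apply h.F1 hK.le hK.nrm (x := g⁻¹) (fun e => hgH (by have := inv_mem e; rwa [inv_inv] at this))
  intro k hk
  rw [mem_cj, inv_inv]
  exact hK.le (hg k hk)

theorem _root_.Cfsg.Agent.H284.EP.cent_le {K : Subgroup G} (hK : NIn K H) (hne : K ≠ ⊥) {c : G}
    (hc : ∀ a ∈ K, c * a = a * c) : c ∈ H :=
  h.norm_le hK hne (g := c) (fun k hk => by rw [hc k hk, mul_inv_cancel_right]; exact hk)

/-- the centralizer in `G` of a subgroup normalised by `H` -/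
theorem cent_nin {K : Subgroup G} (hK : NIn K H) (hne : K ≠ ⊥) : NIn (Subgroup.centralizer (K : Set G)) H := by
  refine ⟨fun c hc => h.cent_le hK hne fun a ha => ?_, ?_⟩
  · exact (Subgroup.mem_centralizer_iff.1 hc a ha).symm
  · intro g hg c hc
    rw [Subgroup.mem_centralizer_iff] at hc ⊢
    intro a ha
    have h3 := hc _ (hK.nrm g⁻¹ (inv_mem hg) a ha)
    rw [inv_inv] at h3
    calc a * (g * c * g⁻¹) = g * (g⁻¹ * a * g * c) * g⁻¹ := by group
      _ = g * (c * (g⁻¹ * a * g)) * g⁻¹ := by rw [h3]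
      _ = g * c * g⁻¹ * a := by group

/-- The three cases. -/
theorem trichotomy :
    (∃ X : Subgroup G, EPA2 H X) ∨
    (∃ (N N' : Subgroup G) (T : Type) (_ : Group T) (k : ℕ) (e : N ≃* (Fin k → T)), EPT2 H N N' e) ∨
    ∃ (N : Subgroup G) (T : Type) (_ : Group T) (k : ℕ) (e : N ≃* (Fin k → T)), EPS H N e := by
  have hHH : NIn H H := ⟨le_rfl, fun g hg k hk => mul_mem (mul_mem hg hk) (inv_mem hg)⟩
  obtain ⟨N, -, hN⟩ := exists_minN hHH h.ne
  by_cases hab : ∀ a ∈ N, ∀ b ∈ N, a * b = b * a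
  · exact Or.inl ⟨N, h, hN, hab⟩
  push Not at hab
  obtain ⟨a, ha, b, hb, hab⟩ := hab
  obtain ⟨T, i1, k, hs, hk, ⟨e⟩⟩ := hN.exists_pi
  have hnab : ∃ a b : T, a * b ≠ b * a := by
    by_contra hcon
    push Not at hcon
    apply hab
    have h1 : (⟨a, ha⟩ : N) * ⟨b, hb⟩ = ⟨b, hb⟩ * ⟨a, ha⟩ := by
      apply e.injective
      rw [map_mul, map_mul]
      funext i
      exact hcon _ _
    exact Subtype.ext_iff.1 h1
  have hCn := cent_nin h hN.toNIn hN.ne
  by_cases hC : Subgroup.centralizer (N : Set G) = ⊥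
  · right; right
    refine ⟨N, T, i1, k, e, ⟨hN, h, hk, hs, hnab, hC, ?_⟩⟩
    intro K hK hKne
    have h1 : NIn (K ⊓ N) H := ⟨inf_le_left.trans hK.le, fun g hg x hx =>
      ⟨hK.nrm g hg x hx.1, hN.nrm g hg x hx.2⟩⟩
    rcases hN.min _ inf_le_right h1 with h2 | h2
    · exfalso
      apply hKne
      rw [← le_bot_iff, ← hC]
      intro x hx
      rw [Subgroup.mem_centralizer_iff]
      intro n hn
      have h3 : n * x * n⁻¹ * x⁻¹ ∈ K ⊓ N := by
        refine ⟨K.mul_mem (hK.nrm n (hN.le hn) x hx) (K.inv_mem hx), ?_⟩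
        have h4 := N.mul_mem hn (hN.nrm x (hK.le hx) n⁻¹ (N.inv_mem hn))
        have h5 : n * x * n⁻¹ * x⁻¹ = n * (x * n⁻¹ * x⁻¹) := by group
        rw [h5]
        exact h4
      rw [h2, mem_bot] at h3
      have h6 : n * x * n⁻¹ * x⁻¹ * (x * n) = n * x := by group
      rw [h3, one_mul] at h6
      exact h6.symm
    · rw [← h2]
      exact inf_le_left
  · obtain ⟨N', hN'C, hN'⟩ := exists_minN hCn hC
    have hcomm : ∀ a ∈ N, ∀ b ∈ N', a * b = b * a := fun a ha b hb =>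
      Subgroup.mem_centralizer_iff.1 (hN'C hb) a ha
    by_cases hab' : ∀ a ∈ N', ∀ b ∈ N', a * b = b * a
    · exact Or.inl ⟨N', h, hN', hab'⟩
    push Not at hab'
    right; left
    have h1 := h.card_comm hN.le hN.nrm hN.ne hN'.le hN'.nrm hN'.ne hcomm h.max.1
    have h2 := h.card_comm hN.le hN.nrm hN.ne hCn.le hCn.nrm hC
      (fun a ha b hb => Subgroup.mem_centralizer_iff.1 hb a ha) h.max.1
    have h3 : N' = Subgroup.centralizer (N : Set G) := Subgroup.eq_of_le_of_card_ge hN'C (h2.symm.trans h1).le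
    have hCn' := cent_nin h hN'.toNIn hN'.ne
    have hle : N ≤ Subgroup.centralizer (N' : Set G) := fun a ha => by
      rw [Subgroup.mem_centralizer_iff]
      exact fun b hb => (hcomm a ha b hb).symm
    have hC' : Subgroup.centralizer (N' : Set G) ≠ ⊥ := fun e => hN.ne (le_bot_iff.1 (e ▸ hle))
    have h4 := h.card_comm hN'.le hN'.nrm hN'.ne hCn'.le hCn'.nrm hC'
      (fun a ha b hb => Subgroup.mem_centralizer_iff.1 hb a ha) h.max.1
    have h5 : N = Subgroup.centralizer (N' : Set G) := Subgroup.eq_of_le_of_card_ge hle (h4.symm.trans h1.symm).le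
    refine ⟨N, N', T, i1, k, e, ⟨h, hN, hN', hk, hs, hnab, ?_, hcomm, ?_, ?_⟩⟩
    · obtain ⟨a, ha, b, hb, hab'⟩ := hab'
      exact ⟨a, ha, b, hb, hab'⟩
    · intro c hc
      rw [h3, Subgroup.mem_centralizer_iff]
      exact fun a ha => (hc a ha).symm
    · intro c hc
      rw [h5, Subgroup.mem_centralizer_iff]
      exact fun a ha => (hc a ha).symm

end

end Cfsg.Agent.H209.EPX
end

-- part: H209/IF/Defs
section
prune_inst 0x64005000000000000000a000004012000002004000010040000000c8800120000800b040020001020864203a802811000029423800000a000200411804811002004280080000010000004804000000000000000000000000000000000000200000000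
set_option linter.all false
open scoped Cfsg.Agent.FastGrp

/-!
# S5719 (involution fixity of almost simple primitive groups): interface (driver helper209, mathematics helper634)

`IF A Γ` : `A = H ∩ T`, `Γ ≤ Aut T` the group induced by the point stabiliser `H`; `n = |T : A|`.
* `fx A σ` : number of points `yA` fixed by `σ`, i.e. `y⁻¹ σ(y) ∈ A`.
* `exists_IF` : from a counterexample of S5719.
-/

set_option autoImplicit false
set_option linter.unusedSectionVars false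

namespace Cfsg.Agent.H209.Fxy

open MulAction Subgroup Cfsg.Agent.H284

/-- the set of cosets `yA` fixed by `σ` (for `σ` leaving `A` invariant) -/
def fixSet {T : Type*} [Group T] (A : Subgroup T) (σ : MulAut T) : Set (T ⧸ A) :=
  {c | ∃ y : T, (y : T ⧸ A) = c ∧ y⁻¹ * σ y ∈ A}

/-- the fixity of `σ` on `T/A` -/
noncomputable def fx {T : Type*} [Group T] (A : Subgroup T) (σ : MulAut T) : ℕ := (fixSet A σ).ncard

/-- A counterexample to S5719, seen in the simple group `T`. -/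
structure IF {T : Type*} [Group T] (A : Subgroup T) (Γ : Subgroup (MulAut T)) : Prop where
  /-- `A` is maximal among the proper `Γ`-invariant subgroups -/
  max : ∀ B : Subgroup T, A ≤ B → (∀ σ ∈ Γ, ∀ b ∈ B, σ b ∈ B) → B = A ∨ B = ⊤
  ne_top : A ≠ ⊤
  ne_bot : A ≠ ⊥
  /-- the inner automorphisms in `Γ` are those of `A` -/
  conj : ∀ a : T, MulAut.conj a ∈ Γ ↔ a ∈ A
  inv : ∀ σ ∈ Γ, ∀ a : T, σ a ∈ A ↔ a ∈ A
  big : 729 < A.index
  small : ∀ σ ∈ Γ, orderOf σ = 2 → fx A σ ^ 6 < A.index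
  ex : ∃ σ ∈ Γ, orderOf σ = 2 ∧ 3 ≤ fx A σ

section

variable {G Ω : Type*} [Group G] [Finite G] [MulAction G Ω] [FaithfulSMul G Ω] [Fintype Ω]
  {T : Subgroup G} [hTn : T.Normal] {Q : Type*} [Group Q] (e : T ≃* Q)

/-- the point of `Ω` belonging to a coset -/
theorem exists_equiv (htr : ∀ x y : Ω, ∃ t ∈ T, t • x = y) (α : Ω) :
    ∃ φ : (Q ⧸ TA e (stabilizer G α)) ≃ Ω, ∀ q : Q, φ (q : Q ⧸ TA e (stabilizer G α)) = toG e q • α := by
  refine ⟨Equiv.ofBijective (Quotient.lift (fun q : Q => toG e q • α) ?_) ⟨?_, ?_⟩, fun q => rfl⟩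
  · intro a b hab
    have h1 : a⁻¹ * b ∈ TA e (stabilizer G α) := QuotientGroup.leftRel_apply.1 hab
    have h2 : toG e (a⁻¹ * b) ∈ stabilizer G α := h1
    rw [map_mul, map_inv, mem_stabilizer_iff, mul_smul, inv_smul_eq_iff] at h2
    exact h2.symm
  · intro a b hab
    induction a using QuotientGroup.induction_on with
    | H a =>
      induction b using QuotientGroup.induction_on with
      | H b =>
        have hab' : toG e a • α = toG e b • α := hab
        rw [QuotientGroup.eq, mem_TA, map_mul, map_inv, mem_stabilizer_iff, mul_smul, inv_smul_eq_iff]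
        exact hab'.symm
  · intro x
    obtain ⟨t, ht, hx⟩ := htr α x
    obtain ⟨q, rfl⟩ := exists_toG e ht
    exact ⟨(q : Q ⧸ TA e (stabilizer G α)), hx⟩

theorem fx_eq (htr : ∀ x y : Ω, ∃ t ∈ T, t • x = y) (α : Ω) {g : G} (hg : g ∈ stabilizer G α) :
    fx (TA e (stabilizer G α)) (toAut e g) = Nat.card (fixedBy Ω g) := by
  obtain ⟨φ, hφ⟩ := exists_equiv e htr α
  have key : ∀ q : Q, q⁻¹ * toAut e g q ∈ TA e (stabilizer G α) ↔ toG e q • α ∈ fixedBy Ω g := by
    intro q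
    rw [stab_iff e hg, ← stab_smul]
    rfl
  have h1 : φ '' fixSet (TA e (stabilizer G α)) (toAut e g) = fixedBy Ω g := by
    ext x
    constructor
    · rintro ⟨_, ⟨q, rfl, hq⟩, rfl⟩
      rw [hφ]
      exact (key q).1 hq
    · intro hx
      obtain ⟨t, ht, hx'⟩ := htr α x
      obtain ⟨q, rfl⟩ := exists_toG e ht
      exact ⟨(q : Q ⧸ TA e (stabilizer G α)), ⟨q, rfl, (key q).2 (by rw [hx']; exact hx)⟩, by rw [hφ, hx']⟩
  rw [fx, ← Set.ncard_image_of_injective _ φ.injective, h1]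
  rfl

theorem index_eq (htr : ∀ x y : Ω, ∃ t ∈ T, t • x = y) (α : Ω) :
    (TA e (stabilizer G α)).index = Fintype.card Ω := by
  obtain ⟨φ, -⟩ := exists_equiv e htr α
  rw [Subgroup.index, Nat.card_congr φ, Nat.card_eq_fintype_card]

theorem orderOf_toAut (hC : Subgroup.centralizer (T : Set G) = ⊥) (g : G) :
    orderOf (toAut e g) = orderOf g := orderOf_injective _ (toAut_inj e hC) g

end

theorem pow6 {a n : ℕ} (h : (a : ℝ) < (n : ℝ) ^ ((1 : ℝ) / 6)) : a ^ 6 < n := by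
  have h0 : (0 : ℝ) ≤ (n : ℝ) := Nat.cast_nonneg n
  have h1 : (a : ℝ) ^ 6 < ((n : ℝ) ^ ((1 : ℝ) / 6)) ^ 6 := pow_lt_pow_left₀ h (Nat.cast_nonneg a) (by norm_num)
  have h2 : ((n : ℝ) ^ ((1 : ℝ) / 6)) ^ 6 = n := by
    rw [← Real.rpow_natCast, ← Real.rpow_mul h0]
    norm_num
  rw [h2] at h1
  exact_mod_cast h1

/-- **A counterexample to S5719 gives `IF`.** (`hsol` : Schreier) -/
theorem exists_IF {G Ω : Type*} [Group G] [Finite G] [MulAction G Ω] [FaithfulSMul G Ω] [Fintype Ω]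
    (T : Subgroup G) [T.Normal] (hT : IsSimpleGroup T) (hTn : ¬ IsMulCommutative T)
    (hC : Subgroup.centralizer (T : Set G) = ⊥) (hprim : MulAction.IsPreprimitive G Ω)
    (hsol : Group.IsSolvable (G ⧸ T))
    (hneg : ¬ ((∃ t : G, orderOf t = 2 ∧ (Fintype.card Ω : ℝ) ^ ((1 : ℝ) / 6) ≤ (Nat.card (MulAction.fixedBy Ω t) : ℝ)) ∨
    (∀ t : G, orderOf t = 2 → Nat.card (MulAction.fixedBy Ω t) ≤ 2)))
    {Q : Type*} [Group Q] (e : T ≃* Q) : ∃ (A : Subgroup Q) (Γ : Subgroup (MulAut Q)), IF A Γ := by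
  push Not at hneg
  obtain ⟨hsm, t0, ht0, hf0⟩ := hneg
  have hsm' : ∀ t : G, orderOf t = 2 → Nat.card (fixedBy Ω t) ^ 6 < Fintype.card Ω := fun t ht => pow6 (hsm t ht)
  have hbig : 729 < Fintype.card Ω := by
    have h1 := hsm' t0 ht0
    have h2 : 3 ^ 6 ≤ Nat.card (fixedBy Ω t0) ^ 6 := Nat.pow_le_pow_left hf0 6
    omega
  have hTc : ¬ ∀ a ∈ T, ∀ b ∈ T, a * b = b * a := by
    intro hc
    apply hTn
    exact ⟨⟨fun a b => Subtype.ext (hc a a.2 b b.2)⟩⟩
  have hTb : T ≠ ⊥ := by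
    rintro rfl
    apply hTc
    intro a ha b hb
    rw [mem_bot] at ha hb
    rw [ha, hb]
  have hnt : Nontrivial Ω := by
    rw [← Fintype.one_lt_card_iff_nontrivial]
    omega
  have hTtr : MulAction.IsPretransitive T Ω := by
    apply IsQuasiPreprimitive.isPretransitive_of_normal (G := G)
    intro h1
    apply hTb
    rw [Subgroup.eq_bot_iff_forall]
    intro t ht
    apply FaithfulSMul.eq_of_smul_eq_smul (α := Ω)
    intro x
    have h2 : x ∈ fixedPoints T Ω := by rw [h1]; trivial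
    rw [one_smul]
    exact h2 ⟨t, ht⟩
  have htr : ∀ x y : Ω, ∃ t ∈ T, t • x = y := by
    intro x y
    obtain ⟨t, ht⟩ := hTtr.exists_smul_eq x y
    exact ⟨t, t.2, ht⟩
  obtain ⟨⟨α, hα⟩⟩ : Nonempty (fixedBy Ω t0) := by
    by_contra hcon
    rw [not_nonempty_iff] at hcon
    rw [Nat.card_of_isEmpty] at hf0
    omega
  set H := stabilizer G α with hH
  have hco : IsCoatom H := IsPreprimitive.isCoatom_stabilizer_of_isPreprimitive G α
  have hmax : ∀ B : Subgroup Q, TA e H ≤ B → (∀ σ ∈ H.map (toAut e), ∀ b ∈ B, σ b ∈ B) → B = TA e H ∨ B = ⊤ := by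
    intro B hAB hB
    have hBn : ∀ g ∈ H, ∀ k ∈ B.map (toG e), g * k * g⁻¹ ∈ B.map (toG e) := map_toG_norm e hB
    let S : Subgroup G :=
      { carrier := {g | ∃ b ∈ B.map (toG e), ∃ h ∈ H, g = b * h}
        one_mem' := ⟨1, one_mem _, 1, one_mem _, (mul_one 1).symm⟩
        mul_mem' := by
          rintro _ _ ⟨b, hb, h, hh, rfl⟩ ⟨b', hb', h', hh', rfl⟩
          refine ⟨b * (h * b' * h⁻¹), mul_mem hb (hBn h hh b' hb'), h * h', mul_mem hh hh', ?_⟩
          group
        inv_mem' := by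
          rintro _ ⟨b, hb, h, hh, rfl⟩
          refine ⟨h⁻¹ * b⁻¹ * h⁻¹⁻¹, hBn _ (inv_mem hh) _ (inv_mem hb), h⁻¹, inv_mem hh, ?_⟩
          group }
    have hHS : H ≤ S := fun h hh => ⟨1, one_mem _, h, hh, (one_mul h).symm⟩
    rcases eq_or_lt_of_le hHS with h1 | h1
    · left
      apply le_antisymm _ hAB
      intro b hb
      rw [mem_TA, h1]
      exact ⟨toG e b, ⟨b, hb, rfl⟩, 1, one_mem _, (mul_one _).symm⟩
    · right
      have h2 := hco.2 _ h1
      rw [Subgroup.eq_top_iff']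
      intro q
      have h3 : toG e q ∈ S := by rw [h2]; exact mem_top _
      obtain ⟨_, ⟨b, hb, rfl⟩, h, hh, he⟩ := h3
      have h4 : toG e (b⁻¹ * q) = h := by rw [map_mul, map_inv, he]; group
      have h5 : b⁻¹ * q ∈ B := hAB (by rw [mem_TA, h4]; exact hh)
      have h6 := B.mul_mem hb h5
      rwa [mul_inv_cancel_left] at h6
  refine ⟨TA e H, H.map (toAut e), hmax, ?_, ?_, ?_, ?_, ?_, ?_, ?_⟩
  · -- ne_top
    intro h1
    have h2 := index_eq e htr α
    rw [h1, Subgroup.index_top] at h2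
    omega
  · -- ne_bot
    intro h1
    have hHT : H ⊓ T = ⊥ := by
      rw [Subgroup.eq_bot_iff_forall]
      rintro x ⟨hx, hxT⟩
      obtain ⟨q, rfl⟩ := exists_toG e hxT
      have h2 : q ∈ TA e H := hx
      rw [h1, mem_bot] at h2
      rw [h2, map_one]
    apply hTc
    refine (reg_sub (M := H) (N := T) (fun m _ n hn => Subgroup.Normal.conj_mem inferInstance n hn m)
      (solv_of_inf hsol hHT) ?_ hTb).1
    intro L hL hLn
    have h2 : L = (L.comap (toG e)).map (toG e) := by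
      ext x
      constructor
      · intro hx
        obtain ⟨q, rfl⟩ := exists_toG e (hL hx)
        exact ⟨q, hx, rfl⟩
      · rintro ⟨q, hq, rfl⟩
        exact hq
    rcases hmax (L.comap (toG e)) (by rw [h1]; exact bot_le) (by
      rintro _ ⟨g, hg, rfl⟩ b hb
      rw [Subgroup.mem_comap, toG_toAut]
      exact hLn g hg _ hb) with h3 | h3
    · left
      rw [h2, h3, h1, Subgroup.map_bot]
    · right
      apply le_antisymm hL
      intro t ht
      obtain ⟨q, rfl⟩ := exists_toG e ht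
      have h4 : q ∈ L.comap (toG e) := by rw [h3]; exact mem_top _
      exact h4
  · intro a
    constructor
    · rintro ⟨h, hh, he⟩
      rw [← toAut_toG e] at he
      rw [mem_TA, ← toAut_inj e hC he]
      exact hh
    · intro ha
      exact ⟨toG e a, ha, toAut_toG e a⟩
  · rintro _ ⟨g, hg, rfl⟩ a
    rw [mem_TA, mem_TA, toG_toAut]
    constructor
    · intro h1
      have h2 := H.mul_mem (H.mul_mem (H.inv_mem hg) h1) hg
      have h3 : g⁻¹ * (g * toG e a * g⁻¹) * g = toG e a := by group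
      rwa [h3] at h2
    · intro h1
      exact H.mul_mem (H.mul_mem hg h1) (H.inv_mem hg)
  · rw [index_eq e htr α]
    exact hbig
  · rintro _ ⟨g, hg, rfl⟩ hord
    rw [orderOf_toAut e hC] at hord
    rw [index_eq e htr α, fx_eq e htr α hg]
    exact hsm' g hord
  · refine ⟨toAut e t0, ⟨t0, hα, rfl⟩, ?_, ?_⟩
    · rw [orderOf_toAut e hC, ht0]
    · rw [fx_eq e htr α hα]
      exact hf0

end Cfsg.Agent.H209.Fxy

private theorem dce_bd60869d2553 : _root_.True := by
  try have : _root_.True := by simp only [_root_.Cfsg.Agent.H209.Fxy.fx.eq_1]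
  exact _root_.True.intro
end

-- part: H999/IF/EngB
section
prune_inst 0x201024043022000000000000a000006202000002004000010040000000c1800100400001b2000208010208640038006811100029421800002a000200411900801000208280080000000000808804080c00000000000000000000000000000000000000000
set_option linter.all false
open scoped Cfsg.Agent.FastGrp

/-!
# S5719, ENG1 - ENG4: the fixed point formula (helper999)
-/

set_option autoImplicit false
set_option linter.unusedSectionVars false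

namespace Cfsg.Agent.H999.IFB

open MulAction Subgroup Cfsg.Agent.H284 Cfsg.Agent.H209.Fxy

variable {T : Type*} [Group T] [Finite T] {A : Subgroup T} {Γ : Subgroup (MulAut T)}

/-- the class of `σ` under inner automorphisms -/
def icl (σ : MulAut T) : Set (MulAut T) := {τ | ∃ x : T, τ = MulAut.conj x * σ * (MulAut.conj x)⁻¹}

/-- `conj(y)⁻¹ σ conj(y) = conj(y⁻¹ σ(y)) σ` -/
theorem conj_conj (σ : MulAut T) (y : T) :
    (MulAut.conj y)⁻¹ * σ * MulAut.conj y = MulAut.conj (y⁻¹ * σ y) * σ := by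
  ext z
  simp only [MulAut.mul_apply, MulAut.conj_apply, map_mul, map_inv, mul_inv_rev, inv_inv, MulAut.conj_inv_apply,
    mul_assoc]

theorem mem_iff (h : IF A Γ) {σ : MulAut T} (hσ : σ ∈ Γ) (y : T) :
    y⁻¹ * σ y ∈ A ↔ (MulAut.conj y)⁻¹ * σ * MulAut.conj y ∈ Γ := by
  rw [conj_conj, ← h.conj]
  constructor
  · intro h1
    exact Γ.mul_mem h1 hσ
  · intro h1
    have := Γ.mul_mem h1 (Γ.inv_mem hσ)
    rwa [mul_inv_cancel_right] at this

/-- the fibres of `y ↦ conj(y)⁻¹ σ conj(y)` -/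
noncomputable def fibEquiv (σ : MulAut T) (X : Set (MulAut T)) (hX : X ⊆ icl σ) :
    {y : T // (MulAut.conj y)⁻¹ * σ * MulAut.conj y ∈ X} ≃
      X × {z : T // (MulAut.conj z)⁻¹ * σ * MulAut.conj z = σ} := by
  classical
  -- a chosen `r τ` with `conj(r)⁻¹ σ conj(r) = τ`
  have hr : ∀ τ : X, ∃ r : T, (MulAut.conj r)⁻¹ * σ * MulAut.conj r = τ := by
    intro τ
    obtain ⟨x, hx⟩ := hX τ.2
    exact ⟨x⁻¹, by rw [map_inv, inv_inv, hx]⟩
  choose r hr using hr
  refine
    { toFun := fun y => (⟨_, y.2⟩, ⟨(y : T) * (r ⟨_, y.2⟩)⁻¹, ?_⟩)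
      invFun := fun p => ⟨(p.2 : T) * r p.1, ?_⟩
      left_inv := ?_
      right_inv := ?_ }
  · have h1 := hr ⟨_, y.2⟩
    rw [map_mul, map_inv, mul_inv_rev, inv_inv]
    calc MulAut.conj (r ⟨_, y.2⟩) * (MulAut.conj (y : T))⁻¹ * σ * (MulAut.conj (y : T) * (MulAut.conj (r ⟨_, y.2⟩))⁻¹)
        = MulAut.conj (r ⟨_, y.2⟩) * ((MulAut.conj (y : T))⁻¹ * σ * MulAut.conj (y : T)) *
          (MulAut.conj (r ⟨_, y.2⟩))⁻¹ := by group
      _ = MulAut.conj (r ⟨_, y.2⟩) * ((MulAut.conj (r ⟨_, y.2⟩))⁻¹ * σ * MulAut.conj (r ⟨_, y.2⟩)) *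
          (MulAut.conj (r ⟨_, y.2⟩))⁻¹ := by rw [h1]
      _ = σ := by group
  · have h1 := hr p.1
    have h2 := p.2.2
    have h3 : (MulAut.conj ((p.2 : T) * r p.1))⁻¹ * σ * MulAut.conj ((p.2 : T) * r p.1) = p.1 := by
      rw [map_mul, mul_inv_rev]
      calc (MulAut.conj (r p.1))⁻¹ * (MulAut.conj (p.2 : T))⁻¹ * σ * (MulAut.conj (p.2 : T) * MulAut.conj (r p.1))
          = (MulAut.conj (r p.1))⁻¹ * ((MulAut.conj (p.2 : T))⁻¹ * σ * MulAut.conj (p.2 : T)) * MulAut.conj (r p.1) := by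
            group
        _ = p.1 := by rw [h2, h1]
    rw [h3]
    exact p.1.2
  · intro y
    apply Subtype.ext
    simp
  · intro p
    have h1 := hr p.1
    have h2 := p.2.2
    have h3 : (MulAut.conj ((p.2 : T) * r p.1))⁻¹ * σ * MulAut.conj ((p.2 : T) * r p.1) = p.1 := by
      rw [map_mul, mul_inv_rev]
      calc (MulAut.conj (r p.1))⁻¹ * (MulAut.conj (p.2 : T))⁻¹ * σ * (MulAut.conj (p.2 : T) * MulAut.conj (r p.1))
          = (MulAut.conj (r p.1))⁻¹ * ((MulAut.conj (p.2 : T))⁻¹ * σ * MulAut.conj (p.2 : T)) * MulAut.conj (r p.1) := by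
            group
        _ = p.1 := by rw [h2, h1]
    have h4 : (⟨(MulAut.conj ((p.2 : T) * r p.1))⁻¹ * σ * MulAut.conj ((p.2 : T) * r p.1), by
        rw [h3]; exact p.1.2⟩ : X) = p.1 := Subtype.ext h3
    refine Prod.ext h4 (Subtype.ext ?_)
    change (p.2 : T) * r p.1 * (r ⟨_, _⟩)⁻¹ = p.2
    rw [h4, mul_inv_cancel_right]

theorem card_fib (σ : MulAut T) (X : Set (MulAut T)) (hX : X ⊆ icl σ) :
    Nat.card {y : T // (MulAut.conj y)⁻¹ * σ * MulAut.conj y ∈ X} =
      X.ncard * Nat.card {z : T // (MulAut.conj z)⁻¹ * σ * MulAut.conj z = σ} := by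
  rw [Nat.card_congr (fibEquiv σ X hX), Nat.card_prod]
  rfl

theorem card_T (σ : MulAut T) :
    Nat.card T = (icl σ).ncard * Nat.card {z : T // (MulAut.conj z)⁻¹ * σ * MulAut.conj z = σ} := by
  rw [← card_fib σ (icl σ) (le_refl _)]
  refine (Nat.card_congr (Equiv.subtypeUnivEquiv fun y => ?_)).symm
  exact ⟨y⁻¹, by rw [map_inv, inv_inv]⟩

/-- ENG2, first part -/
theorem IF.fix_formula' (h : IF A Γ) {σ : MulAut T} (hσ : σ ∈ Γ) :
    fx A σ * (icl σ).ncard = A.index * (icl σ ∩ (Γ : Set (MulAut T))).ncard := by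
  have h1 : Nat.card A * fx A σ = (icl σ ∩ (Γ : Set (MulAut T))).ncard *
      Nat.card {z : T // (MulAut.conj z)⁻¹ * σ * MulAut.conj z = σ} := by
    rw [← card_fib σ _ Set.inter_subset_left]
    have h2 : Nat.card A * fx A σ = Nat.card (A × fixSet A σ) := by
      rw [Nat.card_prod]
      rfl
    rw [h2, ← Nat.card_congr (QuotientGroup.preimageMkEquivSubgroupProdSet A (fixSet A σ))]
    refine Nat.card_congr (Equiv.subtypeEquivRight fun y => ?_)
    constructor
    · rintro ⟨z, hz, hz'⟩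
      rw [QuotientGroup.eq] at hz
      have h3 : y⁻¹ * σ y ∈ A := by
        have h4 : y⁻¹ * σ y = (z⁻¹ * y)⁻¹ * (z⁻¹ * σ z) * σ (z⁻¹ * y) := by
          rw [map_mul, map_inv]
          group
        rw [h4]
        exact A.mul_mem (A.mul_mem (A.inv_mem hz) hz') ((h.inv σ hσ _).2 hz)
      exact ⟨⟨y⁻¹, by rw [map_inv, inv_inv]⟩, (mem_iff h hσ y).1 h3⟩
    · rintro ⟨-, hy⟩
      exact ⟨y, rfl, (mem_iff h hσ y).2 hy⟩
  have h2 := card_T σ
  have h3 := A.card_mul_index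
  have h4 : 0 < Nat.card A := Nat.card_pos
  apply Nat.eq_of_mul_eq_mul_left h4
  calc Nat.card A * (fx A σ * (icl σ).ncard) = (Nat.card A * fx A σ) * (icl σ).ncard := by ring
    _ = (icl σ ∩ (Γ : Set (MulAut T))).ncard * ((icl σ).ncard *
        Nat.card {z : T // (MulAut.conj z)⁻¹ * σ * MulAut.conj z = σ}) := by rw [h1]; ring
    _ = (icl σ ∩ (Γ : Set (MulAut T))).ncard * (Nat.card A * A.index) := by rw [← h2, h3]
    _ = Nat.card A * (A.index * (icl σ ∩ (Γ : Set (MulAut T))).ncard) := by ring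

theorem center_of [IsSimpleGroup T] (hna : ∃ a b : T, a * b ≠ b * a) {z : T} (hz : ∀ x, z * x = x * z) : z = 1 := by
  have h1 : (Subgroup.center T) = ⊥ ∨ (Subgroup.center T) = ⊤ := (inferInstance : (Subgroup.center T).Normal).eq_bot_or_eq_top
  rcases h1 with h1 | h1
  · have : z ∈ Subgroup.center T := Subgroup.mem_center_iff.2 fun x => (hz x).symm
    rwa [h1, Subgroup.mem_bot] at this
  · obtain ⟨a, b, hab⟩ := hna
    exfalso
    apply hab
    have : b ∈ Subgroup.center T := by rw [h1]; trivial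
    exact Subgroup.mem_center_iff.1 this a

/-- `|σ^T| = |T : C_T(σ)|` if `Z(T) = 1` -/
theorem card_icl [IsSimpleGroup T] (hna : ∃ a b : T, a * b ≠ b * a) (σ : MulAut T) :
    (icl σ).ncard * Nat.card {x : T // σ x = x} = Nat.card T := by
  rw [card_T σ]
  congr 1
  refine Nat.card_congr (Equiv.subtypeEquivRight fun z => ?_)
  rw [conj_conj]
  constructor
  · intro hz
    rw [hz, inv_mul_cancel, map_one, one_mul]
  · intro hz
    have h1 : MulAut.conj (z⁻¹ * σ z) = 1 := by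
      have := congrArg (fun τ => τ * σ⁻¹) hz
      simpa [mul_assoc] using this
    have h2 : z⁻¹ * σ z = 1 := by
      apply center_of hna
      intro x
      have h3 := congrArg (fun τ : MulAut T => τ x) h1
      simp only [MulAut.conj_apply, MulAut.one_apply] at h3
      rw [mul_inv_eq_iff_eq_mul] at h3
      exact h3
    exact (inv_mul_eq_one.1 h2).symm

/-- ENG2. The fixed point formula, for any `σ ∈ Γ`: `f(σ) |σ^T| = n |σ^T ∩ Γ|`, `|σ^T| = |T : C_T(σ)|`. -/
theorem IF.fix_formula [IsSimpleGroup T] (hna : ∃ a b : T, a * b ≠ b * a) (h : IF A Γ) {σ : MulAut T} (hσ : σ ∈ Γ) :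
    fx A σ * (icl σ).ncard = A.index * (icl σ ∩ (Γ : Set (MulAut T))).ncard ∧
    (icl σ).ncard * Nat.card {x : T // σ x = x} = Nat.card T :=
  ⟨IF.fix_formula' h hσ, card_icl hna σ⟩

theorem fx_pos (A : Subgroup T) (σ : MulAut T) : 0 < fx A σ := by
  have : (fixSet A σ).Nonempty := ⟨((1 : T) : T ⧸ A), 1, rfl, by rw [map_one, inv_one, mul_one]; exact A.one_mem⟩
  exact (Set.ncard_pos (Set.toFinite _)).2 this

theorem one_le (h : IF A Γ) {σ : MulAut T} (hσ : σ ∈ Γ) : A.index ≤ fx A σ * (icl σ).ncard := by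
  rw [IF.fix_formula' h hσ]
  have h1 : 0 < (icl σ ∩ (Γ : Set (MulAut T))).ncard :=
    (Set.ncard_pos (Set.toFinite _)).2 ⟨σ, ⟨1, by simp⟩, hσ⟩
  exact Nat.le_mul_of_pos_right _ h1

/-- ENG3. `f^5 < |σ^T|`, `n^5 < |σ^T|^6`, for `σ ∈ Γ` of order 2. -/
theorem IF.E2 (h : IF A Γ) {σ : MulAut T} (hσ : σ ∈ Γ) (h2 : orderOf σ = 2) :
    fx A σ ^ 5 < (icl σ).ncard ∧ A.index ^ 5 < (icl σ).ncard ^ 6 := by
  have h1 := one_le h hσ
  have h3 := h.small σ hσ h2
  have h4 := fx_pos A σ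
  have h5 : 0 < A.index := by have := h.big; omega
  constructor
  · have h6 : fx A σ * fx A σ ^ 5 < fx A σ * (icl σ).ncard := by
      calc fx A σ * fx A σ ^ 5 = fx A σ ^ 6 := by ring
        _ < A.index := h3
        _ ≤ _ := h1
    exact lt_of_mul_lt_mul_left h6 (Nat.zero_le _)
  · have hpos : 0 < (icl σ).ncard := by
      rcases Nat.eq_zero_or_pos (icl σ).ncard with h6 | h6
      · rw [h6, mul_zero] at h1
        omega
      · exact h6
    have h6 : A.index * A.index ^ 5 < A.index * (icl σ).ncard ^ 6 := by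
      calc A.index * A.index ^ 5 = A.index ^ 6 := by ring
        _ ≤ (fx A σ * (icl σ).ncard) ^ 6 := Nat.pow_le_pow_left h1 6
        _ = fx A σ ^ 6 * (icl σ).ncard ^ 6 := by ring
        _ < A.index * (icl σ).ncard ^ 6 := Nat.mul_lt_mul_of_pos_right h3 (pow_pos hpos 6)
    exact lt_of_mul_lt_mul_left h6 (Nat.zero_le _)

/-- ENG1. A subgroup `B` centralised by `σ` acts on the fixed points of `σ`. -/
theorem IF.E1 (h : IF A Γ) {σ : MulAut T} (hσ : σ ∈ Γ) (h2 : orderOf σ = 2) {B : Subgroup T}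
    (hB : ∀ b ∈ B, σ b = b) : A.relIndex B ≤ fx A σ ∧ A.relIndex B ^ 6 < A.index := by
  have h1 : A.relIndex B ≤ fx A σ := by
    rw [Subgroup.relIndex, Subgroup.index]
    let φ : (B ⧸ A.subgroupOf B) → fixSet A σ := fun c =>
      ⟨Quotient.liftOn' c (fun b : B => ((b : T) : T ⧸ A)) (by
        intro b b' hbb
        rw [QuotientGroup.leftRel_apply] at hbb
        exact QuotientGroup.eq.2 hbb), by
        induction c using QuotientGroup.induction_on with
        | H b => exact ⟨b, rfl, by rw [hB b b.2, inv_mul_cancel]; exact A.one_mem⟩⟩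
    have hφ : Function.Injective φ := by
      intro c c' hcc
      induction c using QuotientGroup.induction_on with
      | H b =>
        induction c' using QuotientGroup.induction_on with
        | H b' =>
          have h3 : ((b : T) : T ⧸ A) = ((b' : T) : T ⧸ A) := congrArg Subtype.val hcc
          rw [QuotientGroup.eq] at h3
          exact QuotientGroup.eq.2 h3
    exact Nat.card_le_card_of_injective φ hφ
  exact ⟨h1, lt_of_le_of_lt (Nat.pow_le_pow_left h1 6) (h.small σ hσ h2)⟩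

theorem orderOf_conj [IsSimpleGroup T] (hna : ∃ a b : T, a * b ≠ b * a) (t : T) :
    orderOf (MulAut.conj t) = orderOf t := by
  refine orderOf_injective (MulAut.conj : T →* MulAut T) ?_ t
  rw [injective_iff_map_eq_one]
  intro z hz
  apply center_of hna
  intro x
  have h3 := congrArg (fun τ : MulAut T => τ x) hz
  simp only [MulAut.conj_apply, MulAut.one_apply] at h3
  rwa [mul_inv_eq_iff_eq_mul] at h3

/-- ENG4. For `t ∈ A` of order 2 in terms of `T`: `|t^T| = (centralizer {t}).index`. -/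
theorem IF.E2' [IsSimpleGroup T] (h : IF A Γ) (hna : ∃ a b : T, a * b ≠ b * a) {t : T} (ht : t ∈ A)
    (h2 : orderOf t = 2) :
    orderOf (MulAut.conj t) = 2 ∧ (icl (MulAut.conj t)).ncard = (centralizer ({t} : Set T)).index ∧
    fx A (MulAut.conj t) ^ 5 < (centralizer ({t} : Set T)).index ∧
    A.index ^ 5 < (centralizer ({t} : Set T)).index ^ 6 ∧
    (∀ B : Subgroup T, B ≤ centralizer ({t} : Set T) →
      A.relIndex B ^ 5 < (centralizer ({t} : Set T)).index ∧ A.relIndex B ^ 6 < A.index) := by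
  have hσ : MulAut.conj t ∈ Γ := (h.conj t).2 ht
  have ho : orderOf (MulAut.conj t) = 2 := by rw [orderOf_conj hna, h2]
  have hc : (icl (MulAut.conj t)).ncard = (centralizer ({t} : Set T)).index := by
    have h3 := card_icl hna (MulAut.conj t)
    have h4 := (centralizer ({t} : Set T)).index_mul_card
    have h5 : Nat.card {x : T // MulAut.conj t x = x} = Nat.card (centralizer ({t} : Set T)) := by
      refine Nat.card_congr (Equiv.subtypeEquivRight fun x => ?_)
      rw [Subgroup.mem_centralizer_singleton_iff, MulAut.conj_apply, mul_inv_eq_iff_eq_mul, eq_comm]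
    rw [h5, ← h4] at h3
    exact Nat.eq_of_mul_eq_mul_right Nat.card_pos h3
  obtain ⟨h3, h4⟩ := IF.E2 h hσ ho
  rw [hc] at h3 h4
  refine ⟨ho, hc, h3, h4, fun B hB => ?_⟩
  obtain ⟨h5, h6⟩ := IF.E1 h hσ ho (B := B) (fun b hb => by
    have := Subgroup.mem_centralizer_singleton_iff.1 (hB hb)
    rw [MulAut.conj_apply, mul_inv_eq_iff_eq_mul]
    exact this.symm)
  exact ⟨lt_of_le_of_lt (Nat.pow_le_pow_left h5 5) h3, h6⟩

end Cfsg.Agent.H999.IFB
end
end
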